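import Cfsg.Agent.Lib.CoprimeValues.Tools
import Cfsg.Agent.Lib.Transfer.Focal
import Cfsg.Agent.Lib.Solvable.FixedPointFree

/-!
Minimal simple groups with distinguished `p`-elements lying in the `p`-core of every proper subgroup
containing them: the maximal subgroups attached to Sylow subgroups.
-/

set_option autoImplicit false
set_option linter.style.haveILetI false
set_option linter.unusedVariables false
set_option linter.unusedSectionVars false
set_option linter.unusedSimpArgs false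

namespace Cfsg.Agent.Lib.CoprimeValues

open scoped commutatorElement

/-- The axioms of the configuration. -/
structure Config (S : Type*) [Group S] (V : ℕ → S → Prop) : Prop where
  simple : IsSimpleGroup S
  not_solvable : ¬ Group.IsSolvable S
  pel : ∀ p : ℕ, p.Prime → ∀ t, V p t → IsPEl p t
  ne_one : ∀ p t, V p t → t ≠ 1
  conj : ∀ p t g, V p t → V p (g * t * g⁻¹)
  exists_val : ∀ p : ℕ, p.Prime → p ∣ Nat.card S → ∃ t, V p t
  comm : ∀ p : ℕ, p.Prime → ∀ P : Subgroup S, IsPGroup p P → ∀ t r, t ∈ P → r ∈ P → V p t →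
    ⁅t, r⁆ ≠ 1 → V p ⁅t, r⁆
  core : ∀ p : ℕ, p.Prime → ∀ K : Subgroup S, K ≠ ⊤ → ∀ (t : S) (ht : t ∈ K), V p t →
    (⟨t, ht⟩ : K) ∈ Cfsg.pCore p K
  fit : ∀ K : Subgroup S, K ≠ ⊤ →
    ∀ [(Cfsg.fittingSubgroup K).Normal], Group.IsNilpotent (↥K ⧸ Cfsg.fittingSubgroup K)

variable {S : Type*} [Group S] [Finite S] {V : ℕ → S → Prop}

/-- The distinguished elements of a Sylow subgroup. -/
def tSet (V : ℕ → S → Prop) {p : ℕ} (P : Sylow p S) : Set S := {t | t ∈ (P : Subgroup S) ∧ V p t}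

/-- The subgroup attached to a Sylow subgroup. -/
def mOf (V : ℕ → S → Prop) {p : ℕ} (P : Sylow p S) : Subgroup S := Subgroup.normalizer (tSet V P)

/-- `u` is a non-trivial `p`-element owned by the maximal subgroup `M`. -/
def Ctr (V : ℕ → S → Prop) (p : ℕ) (u : S) (M : Subgroup S) : Prop :=
  p.Prime ∧ u ≠ 1 ∧ ∃ P : Sylow p S, u ∈ (P : Subgroup S) ∧ M = mOf V P

theorem tSet_smul_mem (hC : Config S V) {p : ℕ} (P : Sylow p S) (g t : S) (ht : t ∈ tSet V P) :
    g * t * g⁻¹ ∈ tSet V (g • P) := by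
  refine ⟨?_, hC.conj p t g ht.2⟩
  rw [Sylow.coe_subgroup_smul]
  exact ⟨t, ht.1, rfl⟩

namespace Config

theorem eq_bot_or_eq_top (hC : Config S V) (N : Subgroup S) (hN : N.Normal) : N = ⊥ ∨ N = ⊤ :=
  hC.simple.eq_bot_or_eq_top_of_normal N hN

theorem not_pGroup (hC : Config S V) {p : ℕ} [Fact p.Prime] : ¬ IsPGroup p S := fun h => by
  haveI := h.isNilpotent
  exact hC.not_solvable inferInstance

theorem normalizer_ne_top (hC : Config S V) {p : ℕ} [Fact p.Prime] {P : Subgroup S}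
    (hP : IsPGroup p P) (h : P ≠ ⊥) : Subgroup.normalizer (P : Set S) ≠ ⊤ := by
  intro htop
  rcases hC.eq_bot_or_eq_top P (Subgroup.normalizer_eq_top_iff.1 htop) with h' | h'
  · exact h h'
  · subst h'
    exact hC.not_pGroup (hP.of_equiv Subgroup.topEquiv)

theorem tSet_ne (hC : Config S V) {p : ℕ} [hp : Fact p.Prime] (hd : p ∣ Nat.card S)
    (P : Sylow p S) : (tSet V P).Nonempty := by
  obtain ⟨t, ht⟩ := hC.exists_val p hp.out hd
  obtain ⟨Q, hQ⟩ := (hC.pel p hp.out t ht).isPGroup.exists_le_sylow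
  obtain ⟨g, hg⟩ := MulAction.exists_smul_eq S Q P
  exact ⟨g * t * g⁻¹, hg ▸ tSet_smul_mem hC Q g t ⟨hQ (Subgroup.mem_zpowers t), ht⟩⟩

theorem tSet_ncard (hC : Config S V) {p : ℕ} [hp : Fact p.Prime] (P Q : Sylow p S) :
    (tSet V P).ncard ≤ (tSet V Q).ncard := by
  obtain ⟨g, hg⟩ := MulAction.exists_smul_eq S P Q
  refine Set.ncard_le_ncard_of_injOn (fun t => g * t * g⁻¹)
    (fun t ht => hg ▸ tSet_smul_mem hC P g t ht) ?_ (Set.toFinite _)
  intro a _ b _ hab
  exact mul_left_cancel (mul_right_cancel hab)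

/-- The maximal subgroup of a Sylow subgroup is proper. -/
theorem mOf_ne_top (hC : Config S V) {p : ℕ} [hp : Fact p.Prime] (hd : p ∣ Nat.card S)
    (P : Sylow p S) : mOf V P ≠ ⊤ := by
  intro h
  obtain ⟨t, ht⟩ := hC.tSet_ne hd P
  refine hC.normalizer_ne_top (P := Subgroup.closure (tSet V P))
    (P.2.to_le ((Subgroup.closure_le _).2 fun x hx => hx.1)) ?_ ?_
  · intro hb
    exact hC.ne_one p t ht.2 (Subgroup.mem_bot.1 (hb ▸ Subgroup.subset_closure ht))
  · rw [eq_top_iff]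
    intro g _
    exact Subgroup.normalizer_le_normalizer_closure (tSet V P)
      (show g ∈ mOf V P by rw [h]; exact Subgroup.mem_top g)

theorem le_mOf (hC : Config S V) {p : ℕ} (P : Sylow p S) : (P : Subgroup S) ≤ mOf V P := by
  have key : ∀ g ∈ (P : Subgroup S), ∀ t ∈ tSet V P, g * t * g⁻¹ ∈ tSet V P := fun g hg t ht =>
    ⟨mul_mem (mul_mem hg ht.1) (inv_mem hg), hC.conj p t g ht.2⟩
  intro g hg t
  refine ⟨key g hg t, fun ht => ?_⟩
  have := key g⁻¹ (inv_mem hg) _ ht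
  have he : g⁻¹ * (g * t * g⁻¹) * g⁻¹⁻¹ = t := by group
  rwa [he] at this

/-- Some element outside a proper part of `tSet P` normalises it. -/
theorem exists_normalizing (hC : Config S V) {p : ℕ} [hp : Fact p.Prime] (P : Sylow p S)
    {D : Set S} (hD : D ⊆ tSet V P) (hne : ¬ tSet V P ⊆ D)
    (hcl : ∀ t ∈ tSet V P, t ∈ Subgroup.closure D → t ∈ D) :
    ∃ t ∈ tSet V P, t ∉ D ∧ t ∈ Subgroup.normalizer (Subgroup.closure D : Set S) := by
  by_contra hno
  push Not at hno
  set H := Subgroup.closure D with hH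
  set H' : Subgroup ↥(P : Subgroup S) := H.subgroupOf (P : Subgroup S) with hH'
  have hHP : H ≤ (P : Subgroup S) := (Subgroup.closure_le _).2 fun x hx => (hD hx).1
  haveI : Group.IsNilpotent ↥(P : Subgroup S) := P.2.isNilpotent
  set N1 := Subgroup.normalizer ((H' : Subgroup ↥(P : Subgroup S)) : Set ↥(P : Subgroup S)) with hN1
  have hnorm : ∀ n : ↥(P : Subgroup S), n ∈ N1 → (n : S) ∈ Subgroup.normalizer (H : Set S) := by
    intro n hn x
    refine ⟨fun hx => ?_, fun hx => ?_⟩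
    · have h1 := (hn ⟨x, hHP hx⟩).1 (by simpa [hH', Subgroup.mem_subgroupOf] using hx)
      simpa [hH', Subgroup.mem_subgroupOf] using h1
    · have hxP : x ∈ (P : Subgroup S) := by
        have h1 := mul_mem (mul_mem (inv_mem n.2) (hHP hx)) n.2
        have he : (n : S)⁻¹ * ((n : S) * x * (n : S)⁻¹) * (n : S) = x := by group
        rwa [he] at h1
      have h1 := (hn ⟨x, hxP⟩).2 (by simpa [hH', Subgroup.mem_subgroupOf] using hx)
      simpa [hH', Subgroup.mem_subgroupOf] using h1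
  -- the normaliser of `N1` inside `P` normalises `D`, hence `H`
  have hN2 : Subgroup.normalizer ((N1 : Subgroup ↥(P : Subgroup S)) : Set ↥(P : Subgroup S)) ≤ N1 := by
    intro m hm
    have hmD : ∀ d ∈ D, (m : S) * d * (m : S)⁻¹ ∈ D := by
      intro d hd
      have hdN : (⟨d, (hD hd).1⟩ : ↥(P : Subgroup S)) ∈ N1 :=
        Subgroup.le_normalizer (by simpa [hH', Subgroup.mem_subgroupOf] using
          (Subgroup.subset_closure hd : d ∈ H))
      have h1 := hnorm _ ((hm _).1 hdN)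
      have h2 : (m : S) * d * (m : S)⁻¹ ∈ tSet V P :=
        ⟨mul_mem (mul_mem m.2 (hD hd).1) (inv_mem m.2), hC.conj p d m (hD hd).2⟩
      by_contra h3
      exact hno _ h2 h3 (by simpa using h1)
    have hsub : H'.map (MulAut.conj m).toMonoidHom ≤ H' := by
      rintro _ ⟨x, hx, rfl⟩
      rw [hH', Subgroup.mem_subgroupOf]
      have h1 : H.map (MulAut.conj (m : S)).toMonoidHom ≤ H := by
        rw [hH, MonoidHom.map_closure]
        refine Subgroup.closure_mono ?_
        rintro _ ⟨d, hd, rfl⟩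
        exact hmD d hd
      simpa using h1 ⟨(x : S), by simpa [hH', Subgroup.mem_subgroupOf] using hx, rfl⟩
    have heq : H'.map (MulAut.conj m).toMonoidHom = H' :=
      Subgroup.eq_of_le_of_card_ge hsub (by
        rw [Subgroup.card_map_of_injective (MulAut.conj m).injective])
    rw [hN1]
    intro w
    refine ⟨fun hw => hsub ⟨w, hw, rfl⟩, fun hw => ?_⟩
    rw [SetLike.mem_coe, ← heq] at hw
    obtain ⟨w', hw', hww⟩ := hw
    exact (MulAut.conj m).injective hww ▸ hw'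
  have htop : N1 = ⊤ := by
    by_contra h
    exact (Group.normalizerCondition_of_isNilpotent N1 (lt_top_iff_ne_top.2 h)).not_ge hN2
  refine hne fun t ht => ?_
  by_contra h3
  exact hno t ht h3 (hnorm ⟨t, ht.1⟩ (htop ▸ Subgroup.mem_top _))

/-- Sylow subgroups sharing a distinguished element share all of them. -/
theorem tSet_eq (hC : Config S V) {p : ℕ} [hp : Fact p.Prime] {P Q : Sylow p S} {t : S}
    (hP : t ∈ tSet V P) (hQ : t ∈ tSet V Q) : tSet V P = tSet V Q := by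
  classical
  by_contra hne
  let Bad := {pq : Sylow p S × Sylow p S //
    tSet V pq.1 ≠ tSet V pq.2 ∧ (tSet V pq.1 ∩ tSet V pq.2).Nonempty}
  haveI : Nonempty Bad := ⟨⟨(P, Q), hne, ⟨t, hP, hQ⟩⟩⟩
  obtain ⟨⟨⟨A, B⟩, hAB, hABne⟩, hmax⟩ :=
    Finite.exists_max (fun pq : Bad => (tSet V pq.1.1 ∩ tSet V pq.1.2).ncard)
  simp only at hAB hABne hmax
  set D := tSet V A ∩ tSet V B with hD
  have hAB' : ¬ tSet V A ⊆ D := fun h =>
    hAB (Set.eq_of_subset_of_ncard_le (fun x hx => (h hx).2) (hC.tSet_ncard B A))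
  have hBA' : ¬ tSet V B ⊆ D := fun h =>
    hAB (Set.eq_of_subset_of_ncard_le (fun x hx => (h hx).1) (hC.tSet_ncard A B)).symm
  have hH : Subgroup.closure D ≤ (A : Subgroup S) ⊓ (B : Subgroup S) :=
    (Subgroup.closure_le _).2 fun x hx => ⟨hx.1.1, hx.2.1⟩
  obtain ⟨a, haA, haD, haN⟩ := hC.exists_normalizing A (D := D) (fun x hx => hx.1) hAB'
    (fun x hx hxc => ⟨hx, (hH hxc).2, hx.2⟩)
  obtain ⟨b, hbB, hbD, hbN⟩ := hC.exists_normalizing B (D := D) (fun x hx => hx.2) hBA'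
    (fun x hx hxc => ⟨⟨(hH hxc).1, hx.2⟩, hx⟩)
  obtain ⟨d, hd⟩ := hABne
  set N := Subgroup.normalizer (Subgroup.closure D : Set S) with hN
  have hNne : N ≠ ⊤ := hC.normalizer_ne_top (A.2.to_le (hH.trans inf_le_left)) fun hb =>
    hC.ne_one p d hd.1.2 (Subgroup.mem_bot.1 (hb ▸ Subgroup.subset_closure hd))
  obtain ⟨R, hR⟩ := ((Cores.pCore_isPGroup p N).map N.subtype).exists_le_sylow
  have hin : ∀ x ∈ N, V p x → x ∈ tSet V R := fun x hx hv =>
    ⟨hR ⟨⟨x, hx⟩, hC.core p hp.out N hNne x hx hv, rfl⟩, hv⟩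
  have hDR : ∀ x ∈ D, x ∈ tSet V R := fun x hx =>
    hin x (Subgroup.le_normalizer (Subgroup.subset_closure hx)) hx.1.2
  have h1 : tSet V A = tSet V R := by
    by_contra h
    have hb := hmax ⟨(A, R), h, ⟨d, hd.1, hDR d hd⟩⟩
    have hlt : D.ncard < (tSet V A ∩ tSet V R).ncard :=
      Set.ncard_lt_ncard ⟨fun x hx => ⟨hx.1, hDR x hx⟩,
        fun hh => haD (hh ⟨haA, hin a haN haA.2⟩)⟩
    exact absurd hb (not_le.2 hlt)
  have h2 : tSet V B = tSet V R := by
    by_contra h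
    have hb := hmax ⟨(B, R), h, ⟨d, hd.2, hDR d hd⟩⟩
    have hlt : D.ncard < (tSet V B ∩ tSet V R).ncard :=
      Set.ncard_lt_ncard ⟨fun x hx => ⟨hx.2, hDR x hx⟩,
        fun hh => hbD (hh ⟨hbB, hin b hbN hbB.2⟩)⟩
    exact absurd hb (not_le.2 hlt)
  exact hAB (h1.trans h2.symm)

/-- A proper subgroup containing a distinguished element of `P` lies in `mOf P`. -/
theorem le_mOf_of_mem (hC : Config S V) {p : ℕ} [hp : Fact p.Prime] {P : Sylow p S}
    {H : Subgroup S} (hH : H ≠ ⊤) {t : S} (htH : t ∈ H) (ht : t ∈ tSet V P) : H ≤ mOf V P := by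
  obtain ⟨R, hR⟩ := ((Cores.pCore_isPGroup p H).map H.subtype).exists_le_sylow
  have hin : ∀ x ∈ H, V p x → x ∈ tSet V R := fun x hx hv =>
    ⟨hR ⟨⟨x, hx⟩, hC.core p hp.out H hH x hx hv, rfl⟩, hv⟩
  have hPR : tSet V P = tSet V R := hC.tSet_eq ht (hin t htH ht.2)
  have key : ∀ h ∈ H, tSet V (h • P) = tSet V P := by
    intro h hh
    refine (hC.tSet_eq (tSet_smul_mem hC P h t ht) ?_).trans hPR.symm
    exact hin _ (mul_mem (mul_mem hh htH) (inv_mem hh)) (hC.conj p t h ht.2)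
  intro h hh x
  refine ⟨fun hx => key h hh ▸ tSet_smul_mem hC P h x hx, fun hx => ?_⟩
  have := key h⁻¹ (inv_mem hh) ▸ tSet_smul_mem hC P h⁻¹ _ hx
  have he : h⁻¹ * (h * x * h⁻¹) * h⁻¹⁻¹ = x := by group
  rwa [he] at this

/-- There is a distinguished element central in each Sylow subgroup. -/
theorem exists_central (hC : Config S V) {p : ℕ} [hp : Fact p.Prime] (hd : p ∣ Nat.card S)
    (P : Sylow p S) :
    ∃ t ∈ tSet V P, ∀ r ∈ (P : Subgroup S), Commute t r := by
  haveI : Group.IsNilpotent ↥(P : Subgroup S) := P.2.isNilpotent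
  obtain ⟨n, hn⟩ := Subgroup.nilpotent_iff_lowerCentralSeries.1
    (inferInstance : Group.IsNilpotent ↥(P : Subgroup S))
  by_contra hno
  push Not at hno
  have key : ∀ i, ∃ t : ↥(P : Subgroup S), V p t ∧
      t ∈ (⊤ : Subgroup ↥(P : Subgroup S)).lowerCentralSeries i := by
    intro i
    induction i with
    | zero =>
      obtain ⟨t, ht⟩ := hC.tSet_ne hd P
      exact ⟨⟨t, ht.1⟩, ht.2, by rw [Subgroup.lowerCentralSeries_zero]; exact Subgroup.mem_top _⟩
    | succ i ih =>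
      obtain ⟨t, ht, hti⟩ := ih
      obtain ⟨r, hr, hnc⟩ := hno t ⟨t.2, ht⟩
      refine ⟨⁅t, ⟨r, hr⟩⁆, ?_, by
        rw [Subgroup.lowerCentralSeries_succ]
        exact Subgroup.commutator_mem_commutator hti (Subgroup.mem_top _)⟩
      exact hC.comm p hp.out _ P.2 _ _ t.2 hr ht fun h =>
        hnc (commutatorElement_eq_one_iff_commute.1 h)
  obtain ⟨t, ht, htn⟩ := key n
  rw [hn, Subgroup.mem_bot] at htn
  exact hC.ne_one p _ ht (by rw [htn]; rfl)

theorem dvd_card_of_mem {p : ℕ} [hp : Fact p.Prime] (P : Sylow p S) {u : S}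
    (hu : u ∈ (P : Subgroup S)) (hu1 : u ≠ 1) : p ∣ Nat.card S := by
  obtain ⟨i, hi⟩ := isPEl_of_mem P.2 hu
  have hi0 : i ≠ 0 := fun h => hu1 (orderOf_eq_one_iff.1 (by rw [hi, h, pow_zero]))
  exact (dvd_pow_self p hi0).trans (hi ▸ orderOf_dvd_natCard u)

theorem centralizer_ne_top (hC : Config S V) {u : S} (hu : u ≠ 1) :
    Subgroup.centralizer {u} ≠ ⊤ := by
  intro h
  have hz : u ∈ Subgroup.center S := Subgroup.mem_center_iff.2 fun g =>
    (Subgroup.mem_centralizer_singleton_iff.1 (show g ∈ Subgroup.centralizer {u} by rw [h]; exact Subgroup.mem_top g))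
  rcases hC.eq_bot_or_eq_top _ (inferInstance : (Subgroup.center S).Normal) with hb | ht
  · exact hu (Subgroup.mem_bot.1 (hb ▸ hz))
  · exact hC.not_solvable (Group.isSolvable_of_comm fun a b =>
      ((Subgroup.mem_center_iff.1 (show a ∈ Subgroup.center S by rw [ht]; exact Subgroup.mem_top a)) b).symm)

theorem eq_of_le_mOf (hC : Config S V) {p q : ℕ} [Fact p.Prime] [Fact q.Prime]
    (hd : p ∣ Nat.card S) (hdq : q ∣ Nat.card S) {P : Sylow p S} {Q : Sylow q S}
    (h : mOf V P ≤ mOf V Q) : mOf V P = mOf V Q := by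
  obtain ⟨t, ht, -⟩ := hC.exists_central hd P
  exact le_antisymm h (hC.le_mOf_of_mem (hC.mOf_ne_top hdq Q) (h (hC.le_mOf P ht.1)) ht)

theorem eq_mOf_of_le (hC : Config S V) {p : ℕ} [Fact p.Prime] (hd : p ∣ Nat.card S)
    {P : Sylow p S} {H : Subgroup S} (h : mOf V P ≤ H) (hH : H ≠ ⊤) : H = mOf V P := by
  obtain ⟨t, ht, -⟩ := hC.exists_central hd P
  exact le_antisymm (hC.le_mOf_of_mem hH (h (hC.le_mOf P ht.1)) ht) h

theorem normalizer_mOf (hC : Config S V) {p : ℕ} [Fact p.Prime] (hd : p ∣ Nat.card S)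
    (P : Sylow p S) : Subgroup.normalizer (mOf V P : Set S) = mOf V P := by
  refine hC.eq_mOf_of_le hd Subgroup.le_normalizer fun h => ?_
  rcases hC.eq_bot_or_eq_top _ (Subgroup.normalizer_eq_top_iff.1 h) with hb | ht
  · obtain ⟨t, ht, -⟩ := hC.exists_central hd P
    exact hC.ne_one p t ht.2 (Subgroup.mem_bot.1 (hb ▸ hC.le_mOf P ht.1))
  · exact hC.mOf_ne_top hd P ht

theorem centralizer_le_mOf (hC : Config S V) {p : ℕ} [Fact p.Prime] {P : Sylow p S} {u : S}
    (hu : u ∈ (P : Subgroup S)) (hu1 : u ≠ 1) : Subgroup.centralizer {u} ≤ mOf V P := by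
  obtain ⟨t, ht, htc⟩ := hC.exists_central (dvd_card_of_mem P hu hu1) P
  exact hC.le_mOf_of_mem (hC.centralizer_ne_top hu1)
    (Subgroup.mem_centralizer_singleton_iff.2 (htc u hu).eq) ht

/-- A non-trivial `p`-element has one maximal subgroup. -/
theorem mOf_unique (hC : Config S V) {p : ℕ} [Fact p.Prime] {P Q : Sylow p S} {u : S}
    (hu1 : u ≠ 1) (hP : u ∈ (P : Subgroup S)) (hQ : u ∈ (Q : Subgroup S)) :
    mOf V P = mOf V Q := by
  have hd := dvd_card_of_mem P hP hu1
  obtain ⟨t, ht, htc⟩ := hC.exists_central hd P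
  obtain ⟨s, hs, hsc⟩ := hC.exists_central hd Q
  have ht' : t ∈ mOf V Q := hC.centralizer_le_mOf hQ hu1
    (Subgroup.mem_centralizer_singleton_iff.2 (htc u hP).eq)
  exact (hC.eq_of_le_mOf hd hd (hC.le_mOf_of_mem (hC.mOf_ne_top hd Q) ht' ht)).symm

theorem mOf_smul (hC : Config S V) {p : ℕ} (P : Sylow p S) (g : S) :
    mOf V (g • P) = (mOf V P).map (MulAut.conj g).toMonoidHom := by
  have hT : tSet V (g • P) = MulAut.conj g '' tSet V P := by
    ext x
    constructor
    · intro hx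
      refine ⟨g⁻¹ * x * g, ?_, by rw [MulAut.conj_apply]; group⟩
      have := tSet_smul_mem hC (g • P) g⁻¹ x hx
      rw [inv_smul_smul, inv_inv] at this
      exact this
    · rintro ⟨t, ht, rfl⟩
      exact tSet_smul_mem hC P g t ht
  show Subgroup.normalizer (tSet V (g • P)) = _
  rw [hT]
  ext x
  rw [Subgroup.mem_map_equiv]
  simp only [mOf, Subgroup.mem_normalizer_iff]
  constructor
  · intro h t
    have h1 := h (MulAut.conj g t)
    simp only [Set.mem_image, EmbeddingLike.apply_eq_iff_eq, exists_eq_right] at h1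
    rw [h1]
    constructor
    · rintro ⟨y, hy, hyx⟩
      rw [MulAut.conj_apply, MulAut.conj_apply] at hyx
      have : y = (MulAut.conj g).symm x * t * ((MulAut.conj g).symm x)⁻¹ := by
        rw [MulAut.conj_symm_apply]
        calc y = g⁻¹ * (g * y * g⁻¹) * g := by group
          _ = g⁻¹ * (x * (g * t * g⁻¹) * x⁻¹) * g := by rw [hyx]
          _ = g⁻¹ * x * g * t * (g⁻¹ * x * g)⁻¹ := by group
      exact this ▸ hy
    · intro hy
      exact ⟨_, hy, by simp only [MulAut.conj_apply, MulAut.conj_symm_apply]; group⟩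
  · intro h n
    have h1 := h (g⁻¹ * n * g)
    simp only [MulAut.conj_symm_apply] at h1
    constructor
    · rintro ⟨t, ht, rfl⟩
      have h2 : g⁻¹ * MulAut.conj g t * g = t := by rw [MulAut.conj_apply]; group
      rw [h2] at h1
      exact ⟨_, h1.1 ht, by simp only [MulAut.conj_apply]; group⟩
    · rintro ⟨t, ht, htx⟩
      refine ⟨g⁻¹ * n * g, h1.2 ?_, by rw [MulAut.conj_apply]; group⟩
      rw [MulAut.conj_apply] at htx
      have : t = g⁻¹ * x * g * (g⁻¹ * n * g) * (g⁻¹ * x * g)⁻¹ := by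
        calc t = g⁻¹ * (g * t * g⁻¹) * g := by group
          _ = g⁻¹ * (x * n * x⁻¹) * g := by rw [htx]
          _ = _ := by group
      exact this ▸ ht

/-- The Sylow subgroup lies in the Fitting subgroup of its maximal subgroup. -/
theorem mem_fitting (hC : Config S V) {p : ℕ} [hp : Fact p.Prime] {P : Sylow p S} {u : S}
    (hu : u ∈ (P : Subgroup S)) :
    (⟨u, hC.le_mOf P hu⟩ : mOf V P) ∈ Cfsg.fittingSubgroup (mOf V P) := by
  by_cases hu1 : u = 1
  · subst hu1; exact one_mem _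
  have hd := dvd_card_of_mem P hu hu1
  set M := mOf V P with hM
  have hMne := hC.mOf_ne_top hd P
  have hctrl : Transfer.ControlsFusion M (P : Subgroup S) := by
    intro x hx g hg
    by_cases hx1 : x = 1
    · exact ⟨1, one_mem _, by simp [hx1]⟩
    refine ⟨g, ?_, rfl⟩
    have h1 : g * x * g⁻¹ ∈ ((g • P : Sylow p S) : Subgroup S) := by
      rw [Sylow.coe_subgroup_smul]; exact ⟨x, hx, rfl⟩
    have hx1' : g * x * g⁻¹ ≠ 1 := by simpa using hx1
    have h2 := hC.mOf_unique hx1' h1 hg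
    rw [hC.mOf_smul, ← hM] at h2
    rw [hM, ← hC.normalizer_mOf hd P, ← hM]
    intro w
    refine ⟨fun hw => h2 ▸ ⟨w, hw, rfl⟩, fun hw => ?_⟩
    rw [SetLike.mem_coe, ← h2] at hw
    obtain ⟨w', hw', hww⟩ := hw
    exact (MulAut.conj g).injective hww ▸ hw'
  have hperf : commutator S = ⊤ := by
    rcases hC.eq_bot_or_eq_top _ (inferInstance : (commutator S).Normal) with hb | ht
    · exact absurd ((isSolvable_def S).2 ⟨1, by rw [derivedSeries_one]; exact hb⟩) hC.not_solvable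
    · exact ht
  have hPM : (P : Subgroup S) ≤ ⁅M, M⁆ := by
    have h := Transfer.commutator_inf_eq_of_controlsFusion P (hC.le_mOf P) hctrl
    rw [hperf, top_inf_eq] at h
    exact inf_eq_right.1 h.symm
  haveI : (Cfsg.fittingSubgroup M).Normal := by rw [Cores.fittingSubgroup_eq_iSup]; infer_instance
  haveI hnil : Group.IsNilpotent (↥M ⧸ Cfsg.fittingSubgroup M) := hC.fit M hMne
  let π : M →* ↥M ⧸ Cfsg.fittingSubgroup M := QuotientGroup.mk' _
  have hπ : Function.Surjective π := QuotientGroup.mk'_surjective _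
  obtain ⟨K, hKn, hKcompl⟩ : ∃ K : Subgroup (↥M ⧸ Cfsg.fittingSubgroup M), K.Normal ∧
      ∃ j, K.index = p ^ j ∧ ¬ p ∣ Nat.card K := by
    obtain ⟨R⟩ := (inferInstance : Nonempty (Sylow p (↥M ⧸ Cfsg.fittingSubgroup M)))
    refine ⟨Cfsg.pPrimeCore p _, inferInstance, ?_⟩
    have htop : Cfsg.pCore p (↥M ⧸ Cfsg.fittingSubgroup M) ⊔ Cfsg.pPrimeCore p _ = ⊤ := top_le_iff.mp
      ((Cores.fittingSubgroup_eq_top_iff.mpr hnil).ge.trans
        (Cores.fittingSubgroup_le_pCore_sup_pPrimeCore p))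
    obtain ⟨j, hj⟩ := IsPGroup.iff_card.mp (Cores.pCore_isPGroup p (↥M ⧸ Cfsg.fittingSubgroup M))
    refine ⟨j, ?_, Cores.not_dvd_card_pPrimeCore⟩
    have h := Cores.card_sup_mul_card_inf (Cfsg.pCore p (↥M ⧸ Cfsg.fittingSubgroup M))
      (Cfsg.pPrimeCore p (↥M ⧸ Cfsg.fittingSubgroup M))
    rw [htop, Cores.pCore_inf_pPrimeCore, Subgroup.card_top, Subgroup.card_bot, mul_one, hj,
      ← (Cfsg.pPrimeCore p (↥M ⧸ Cfsg.fittingSubgroup M)).index_mul_card] at h
    exact Nat.eq_of_mul_eq_mul_right Nat.card_pos h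
  obtain ⟨j, hj, hKp⟩ := hKcompl
  haveI := hKn
  let ρ := (QuotientGroup.mk' K).comp π
  have hρs : Function.Surjective ρ := (QuotientGroup.mk'_surjective K).comp hπ
  have hQp : IsPGroup p ((↥M ⧸ Cfsg.fittingSubgroup M) ⧸ K) :=
    IsPGroup.of_card (n := j) (by rw [← hj]; rfl)
  -- `P` maps onto the quotient and lies in the derived subgroup
  set P' : Sylow p M := P.subtype (hC.le_mOf P) with hP'
  have himg : (P' : Subgroup M).map ρ = ⊤ := by
    have := (P'.mapSurjective hρs).3 (hQp.to_subgroup ⊤) le_top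
    rw [← Sylow.coe_mapSurjective hρs P']
    exact this.symm
  have hcomm : (⊤ : Subgroup ((↥M ⧸ Cfsg.fittingSubgroup M) ⧸ K)) ≤ commutator _ := by
    rw [← himg, commutator_def, ← Subgroup.map_top_of_surjective ρ hρs, ← Subgroup.map_commutator]
    refine Subgroup.map_mono fun x hx => ?_
    rw [← commutator_def]
    have h1 : (x : S) ∈ (commutator M).map M.subtype := by
      rw [Subgroup.map_subtype_commutator]; exact hPM hx
    obtain ⟨y, hy, hyx⟩ := h1
    rw [← Subtype.ext (a1 := y) (a2 := x) hyx]; exact hy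
  have hsub : Subsingleton ((↥M ⧸ Cfsg.fittingSubgroup M) ⧸ K) := by
    by_contra h
    rw [not_subsingleton_iff_nontrivial] at h
    haveI := hQp.isNilpotent
    exact (Group.IsSolvable.commutator_lt_top_of_nontrivial _).not_ge hcomm
  have hKtop : K = ⊤ := QuotientGroup.subgroup_eq_top_of_subsingleton K hsub
  have hp' : IsPEl p (π ⟨u, hC.le_mOf P hu⟩) :=
    (isPEl_of_mem P'.2 (show (⟨u, hC.le_mOf P hu⟩ : M) ∈ (P' : Subgroup M) from hu)).map π
  obtain ⟨i, hi⟩ := hp'
  have hdvd : orderOf (π ⟨u, hC.le_mOf P hu⟩) ∣ Nat.card K := by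
    rw [hKtop, Subgroup.card_top]; exact orderOf_dvd_natCard _
  rcases Nat.eq_zero_or_pos i with h0 | h0
  · rw [h0, pow_zero, orderOf_eq_one_iff] at hi
    exact (QuotientGroup.eq_one_iff _).1 hi
  · exact absurd ((dvd_pow_self p h0.ne').trans (hi ▸ hdvd)) hKp

/-- A `p`-element of the maximal subgroup of a Sylow `p`-subgroup lies in that subgroup. -/
theorem mem_of_mem_mOf (hC : Config S V) {p : ℕ} [hp : Fact p.Prime] (hd : p ∣ Nat.card S)
    {P : Sylow p S} {u : S} (hu : u ∈ mOf V P) (hup : IsPEl p u) : u ∈ (P : Subgroup S) := by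
  haveI : Group.IsNilpotent (Cfsg.fittingSubgroup (mOf V P)) := Cores.fittingSubgroup_isNilpotent _
  set P' : Sylow p (mOf V P) := P.subtype (hC.le_mOf P) with hP'
  have hle : (P' : Subgroup (mOf V P)) ≤ Cfsg.pCore p (mOf V P) := fun x hx =>
    mem_pCore_of_mem_fitting (hC.mem_fitting (u := (x : S)) hx) (isPEl_of_mem P'.2 hx)
  have heq : Cfsg.pCore p (mOf V P) = (P' : Subgroup (mOf V P)) :=
    P'.3 (Cores.pCore_isPGroup p _) hle
  have hup' : IsPEl p (⟨u, hu⟩ : mOf V P) := by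
    obtain ⟨i, hi⟩ := hup
    exact ⟨i, by rw [Subgroup.orderOf_mk, hi]⟩
  obtain ⟨R, hR⟩ := hup'.isPGroup.exists_le_sylow
  haveI : (P' : Subgroup (mOf V P)).Normal := heq ▸ inferInstance
  haveI := Sylow.unique_of_normal P' inferInstance
  rw [Subsingleton.elim R P'] at hR
  exact hR (Subgroup.mem_zpowers _)

end Config

end Cfsg.Agent.Lib.CoprimeValues
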