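import Cfsg.Agent.Lib.CoprimeValues.Config
import Cfsg.Agent.Lib.Coprime.Hall
import Cfsg.Prelude.Def_LieExceptional

/-!
Counting: commuting elements of prime-power order always have the same maximal subgroup.
-/

set_option autoImplicit false
set_option linter.style.haveILetI false
set_option linter.unusedVariables false
set_option linter.unusedSectionVars false

namespace Cfsg.Agent.Lib.CoprimeValues

open scoped Pointwise

variable {S : Type*} [Group S] [Finite S] {V : ℕ → S → Prop}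

/-- `g` lies in the Fitting subgroup of `M`. -/
def fitOf (M : Subgroup S) : Subgroup S := (Cfsg.fittingSubgroup M).map M.subtype

theorem fitOf_le (M : Subgroup S) : fitOf M ≤ M := Subgroup.map_subtype_le _

namespace Config

theorem ctr_exists (hC : Config S V) {p : ℕ} (hp : p.Prime) {u : S} (hu : IsPEl p u) (hu1 : u ≠ 1) :
    ∃ M, Ctr V p u M := by
  haveI : Fact p.Prime := ⟨hp⟩
  obtain ⟨P, hP⟩ := hu.isPGroup.exists_le_sylow
  exact ⟨mOf V P, hp, hu1, P, hP (Subgroup.mem_zpowers u), rfl⟩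

theorem ctr_unique (hC : Config S V) {p q : ℕ} {u : S} {M N : Subgroup S} (hM : Ctr V p u M)
    (hN : Ctr V q u N) : M = N := by
  obtain ⟨hp, hu1, P, hP, rfl⟩ := hM
  obtain ⟨hq, -, Q, hQ, rfl⟩ := hN
  haveI : Fact p.Prime := ⟨hp⟩
  haveI : Fact q.Prime := ⟨hq⟩
  by_cases h : p = q
  · subst h; exact hC.mOf_unique hu1 hP hQ
  · exact absurd (IsPEl.eq_one h (isPEl_of_mem P.2 hP) (isPEl_of_mem Q.2 hQ)) hu1

theorem ctr_pel {p : ℕ} {u : S} {M : Subgroup S} (hM : Ctr V p u M) : IsPEl p u := by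
  obtain ⟨hp, -, P, hP, -⟩ := hM
  haveI : Fact p.Prime := ⟨hp⟩
  exact isPEl_of_mem P.2 hP

theorem ctr_dvd {p : ℕ} {u : S} {M : Subgroup S} (hM : Ctr V p u M) : p ∣ Nat.card S := by
  obtain ⟨hp, hu1, P, hP, -⟩ := hM
  haveI : Fact p.Prime := ⟨hp⟩
  exact dvd_card_of_mem P hP hu1

theorem ctr_ne_top (hC : Config S V) {p : ℕ} {u : S} {M : Subgroup S} (hM : Ctr V p u M) :
    M ≠ ⊤ := by
  have hd := ctr_dvd hM
  obtain ⟨hp, -, P, -, rfl⟩ := hM
  haveI : Fact p.Prime := ⟨hp⟩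
  exact hC.mOf_ne_top hd P

theorem centralizer_le (hC : Config S V) {p : ℕ} {u : S} {M : Subgroup S} (hM : Ctr V p u M) :
    Subgroup.centralizer {u} ≤ M := by
  obtain ⟨hp, hu1, P, hP, rfl⟩ := hM
  haveI : Fact p.Prime := ⟨hp⟩
  exact hC.centralizer_le_mOf hP hu1

theorem normalizer_eq (hC : Config S V) {p : ℕ} {u : S} {M : Subgroup S} (hM : Ctr V p u M) :
    Subgroup.normalizer (M : Set S) = M := by
  have hd := ctr_dvd hM
  obtain ⟨hp, -, P, -, rfl⟩ := hM
  haveI : Fact p.Prime := ⟨hp⟩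
  exact hC.normalizer_mOf hd P

theorem eq_of_le (hC : Config S V) {p q : ℕ} {u e : S} {M N : Subgroup S} (hM : Ctr V p u M)
    (hN : Ctr V q e N) (h : M ≤ N) : M = N := by
  have hd := ctr_dvd hM
  have hdq := ctr_dvd hN
  obtain ⟨hp, -, P, -, rfl⟩ := hM
  obtain ⟨hq, -, Q, -, rfl⟩ := hN
  haveI : Fact p.Prime := ⟨hp⟩
  haveI : Fact q.Prime := ⟨hq⟩
  exact hC.eq_of_le_mOf hd hdq h

theorem ctr_conj (hC : Config S V) {p : ℕ} {u : S} {M : Subgroup S} (hM : Ctr V p u M) (g : S) :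
    Ctr V p (g * u * g⁻¹) (M.map (MulAut.conj g).toMonoidHom) := by
  obtain ⟨hp, hu1, P, hP, rfl⟩ := hM
  refine ⟨hp, by simpa using hu1, g • P, ?_, (hC.mOf_smul P g).symm⟩
  rw [Sylow.coe_subgroup_smul]; exact ⟨u, hP, rfl⟩

/-- A `p`-element of the maximal subgroup of a `p`-element has the same maximal subgroup. -/
theorem ctr_of_mem (hC : Config S V) {p : ℕ} {u h : S} {M : Subgroup S} (hM : Ctr V p u M)
    (hh : h ∈ M) (hp' : IsPEl p h) (hh1 : h ≠ 1) : Ctr V p h M := by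
  have hd := ctr_dvd hM
  obtain ⟨hp, -, P, -, rfl⟩ := hM
  haveI : Fact p.Prime := ⟨hp⟩
  exact ⟨hp, hh1, P, hC.mem_of_mem_mOf hd hh hp', rfl⟩

theorem mem_fitOf (hC : Config S V) {p : ℕ} {u : S} {M : Subgroup S} (hM : Ctr V p u M) :
    u ∈ fitOf M := by
  obtain ⟨hp, hu1, P, hP, rfl⟩ := hM
  haveI : Fact p.Prime := ⟨hp⟩
  exact ⟨_, hC.mem_fitting hP, rfl⟩

/-- Prime-power elements of the Fitting subgroup are owned. -/
theorem ctr_of_mem_fitOf (hC : Config S V) {p q : ℕ} (hq : q.Prime) {u h : S} {M : Subgroup S}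
    (hM : Ctr V p u M) (hh : h ∈ fitOf M) (hhq : IsPEl q h) (hh1 : h ≠ 1) : Ctr V q h M := by
  haveI : Fact q.Prime := ⟨hq⟩
  obtain ⟨y, hy, rfl⟩ := hh
  have hyq : IsPEl q y := by
    obtain ⟨i, hi⟩ := hhq
    exact ⟨i, by rw [← hi]; exact (orderOf_injective M.subtype M.subtype_injective y).symm⟩
  have hyO := mem_pCore_of_mem_fitting hy hyq
  set O : Subgroup S := (Cfsg.pCore q M).map M.subtype with hO
  have hOq : IsPGroup q O := (Cores.pCore_isPGroup q M).map _
  have hhO : (y : S) ∈ O := ⟨y, hyO, rfl⟩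
  obtain ⟨Q, hQ⟩ := hOq.exists_le_sylow
  have hdq := dvd_card_of_mem Q (hQ hhO) hh1
  obtain ⟨t, ht, htc⟩ := hC.exists_central hdq Q
  have hMn : M ≤ Subgroup.normalizer (O : Set S) := by
    intro m hm
    have h1 := Subgroup.le_normalizer_map M.subtype (H := Cfsg.pCore q M)
      (x := m) ⟨⟨m, hm⟩, by rw [Subgroup.normalizer_eq_top_iff.2 inferInstance]; exact Subgroup.mem_top _, rfl⟩
    exact h1
  have hOne : Subgroup.normalizer (O : Set S) ≠ ⊤ := hC.normalizer_ne_top hOq fun hb =>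
    hh1 (Subgroup.mem_bot.1 (hb ▸ hhO))
  have htN : t ∈ Subgroup.normalizer (O : Set S) := by
    intro w
    refine ⟨fun hw => ?_, fun hw => ?_⟩
    · rwa [(htc w (hQ hw)).eq, mul_inv_cancel_right]
    · have hc := htc _ (hQ hw)
      have he : t * w * t⁻¹ = w := mul_left_cancel (mul_right_cancel
        (by rw [← hc.eq] : t * (t * w * t⁻¹) * t⁻¹ = t * w * t⁻¹ * t * t⁻¹) |>.trans (by group))
      rwa [he] at hw
  have hd := ctr_dvd hM
  have hMQ : M ≤ mOf V Q :=
    hMn.trans (hC.le_mOf_of_mem hOne htN ht)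
  obtain ⟨hp, hu1, P, hP, rfl⟩ := hM
  haveI : Fact p.Prime := ⟨hp⟩
  exact ⟨hq, hh1, Q, hQ hhO, hC.eq_of_le_mOf hd hdq hMQ⟩

theorem exists_part {g : S} (hg : g ≠ 1) :
    ∃ r : ℕ, r.Prime ∧ ∃ x ∈ Subgroup.zpowers g, IsPEl r x ∧ x ≠ 1 := by
  by_contra h
  push Not at h
  exact hg (Subgroup.mem_bot.1 (mem_of_parts ⊥ fun r hr x hx hxr => Subgroup.mem_bot.2 (h r hr x hx hxr)))

theorem fitOf_inf (hC : Config S V) {p q : ℕ} {u e : S} {M N : Subgroup S} (hM : Ctr V p u M)
    (hN : Ctr V q e N) (hne : M ≠ N) {g : S} (h1 : g ∈ fitOf M) (h2 : g ∈ fitOf N) : g = 1 := by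
  by_contra hg
  obtain ⟨r, hr, x, hx, hxr, hx1⟩ := exists_part hg
  exact hne (hC.ctr_unique
    (hC.ctr_of_mem_fitOf hr hM ((Subgroup.zpowers_le.2 h1) hx) hxr hx1)
    (hC.ctr_of_mem_fitOf hr hN ((Subgroup.zpowers_le.2 h2) hx) hxr hx1))

theorem fitting_normal (M : Subgroup S) : (Cfsg.fittingSubgroup M).Normal := by
  rw [Cores.fittingSubgroup_eq_iSup]; infer_instance

set_option maxHeartbeats 1000000 in
/-- The structure of a maximal subgroup with respect to a second one. -/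
theorem decompose (hC : Config S V) (hsol : ∀ K : Subgroup S, K ≠ ⊤ → Group.IsSolvable K)
    {p q : ℕ} {u e : S} {M N : Subgroup S} (hM : Ctr V p u M) (hN : Ctr V q e N) (hne : M ≠ N)
    (hue : Commute u e) :
    Nat.card M * Nat.card ↥(fitOf M ⊓ N) = Nat.card ↥(fitOf M) * Nat.card ↥(M ⊓ N) := by
  haveI := fitting_normal (S := S) M
  set F := Cfsg.fittingSubgroup M with hF
  have heM : e ∈ M := hC.centralizer_le hM (Subgroup.mem_centralizer_singleton_iff.2 hue.symm.eq)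
  have hown : ∀ r : ℕ, r.Prime → r ∣ Nat.card F → ∃ x, Ctr V r x M := by
    intro r hr hrd
    haveI : Fact r.Prime := ⟨hr⟩
    obtain ⟨y, hy⟩ := exists_prime_orderOf_dvd_card' r hrd
    have hy1 : ((y : M) : S) ≠ 1 := by
      intro h
      have : y = 1 := Subtype.ext (Subtype.ext h)
      rw [this, orderOf_one] at hy
      exact hr.ne_one hy.symm
    exact ⟨_, hC.ctr_of_mem_fitOf hr hM ⟨y, y.2, rfl⟩
      (IsPEl.map (IsPEl.map (p := r) (x := y) ⟨1, by rw [hy, pow_one]⟩ F.subtype) M.subtype) hy1⟩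
  have hcop : (Nat.card F).Coprime F.index := by
    refine Nat.coprime_of_dvd fun r hr hrd hri => ?_
    haveI : Fact r.Prime := ⟨hr⟩
    obtain ⟨x, hx⟩ := hown r hr hrd
    obtain ⟨z, hz⟩ := exists_prime_orderOf_dvd_card' (G := ↥M ⧸ F) r hri
    obtain ⟨z0, rfl⟩ := QuotientGroup.mk'_surjective F z
    obtain ⟨n, -, hn, hnz⟩ :=
      exists_pEl_lift (p := r) (QuotientGroup.mk' F) (g := z0) ⟨1, by rw [hz, pow_one]⟩
    by_cases hn1 : (n : S) = 1
    · rw [← hnz, show n = 1 from Subtype.ext hn1, map_one, orderOf_one] at hz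
      exact hr.ne_one hz.symm
    · obtain ⟨y, hy, hyn⟩ := hC.mem_fitOf (hC.ctr_of_mem hx n.2 (hn.map M.subtype) hn1)
      obtain rfl : y = n := M.subtype_injective hyn
      have h0 : (QuotientGroup.mk' F) y = 1 := (QuotientGroup.eq_one_iff (N := F) y).2 hy
      rw [← hnz, h0, orderOf_one] at hz
      exact hr.ne_one hz.symm
  obtain ⟨E, hE⟩ := Subgroup.exists_right_complement'_of_coprime hcop
  have hEi : E.index = Nat.card F := hE.index_eq_card
  have hEcop : (Nat.card E).Coprime E.index := by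
    rw [hEi, ← hE.symm.index_eq_card]; exact hcop.symm
  haveI : Group.IsSolvable M := hsol M (hC.ctr_ne_top hM)
  have hqel : IsPEl q (⟨e, heM⟩ : M) := by
    obtain ⟨i, hi⟩ := ctr_pel hN
    exact ⟨i, by rw [Subgroup.orderOf_mk, hi]⟩
  have hqp : q.Prime := hN.1
  haveI : Fact q.Prime := ⟨hqp⟩
  have hK : (Nat.card (Subgroup.zpowers (⟨e, heM⟩ : M))).Coprime E.index := by
    obtain ⟨i, hi⟩ := hqel
    rw [Nat.card_zpowers, hi, hEi]
    refine Nat.Coprime.pow_left _ ((hqp.coprime_iff_not_dvd).2 fun hd => ?_)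
    obtain ⟨x, hx⟩ := hown q hqp hd
    exact hne (hC.ctr_unique (hC.ctr_of_mem hx heM (ctr_pel hN) hN.2.1) hN)
  obtain ⟨g, hg⟩ := Coprime.exists_le_conj_of_solvable hEcop hK
  set E' : Subgroup M := MulAut.conj g • E with hE'
  have heE : (⟨e, heM⟩ : M) ∈ E' := hg (Subgroup.mem_zpowers _)
  have hEcard : Nat.card E' = Nat.card E :=
    Subgroup.card_map_of_injective (MulAut.conj g).injective
  have hdis : F ⊓ E' = ⊥ := by
    rw [eq_bot_iff]
    intro w hw
    have h1 : orderOf w ∣ Nat.card F := by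
      rw [← Subgroup.orderOf_mk w hw.1]; exact orderOf_dvd_natCard _
    have h2 : orderOf w ∣ Nat.card E' := by
      rw [← Subgroup.orderOf_mk w hw.2]; exact orderOf_dvd_natCard _
    rw [hEcard, ← hE.symm.index_eq_card] at h2
    rw [Subgroup.mem_bot, ← orderOf_eq_one_iff]
    exact Nat.eq_one_of_dvd_coprimes hcop h1 h2
  haveI : Group.IsNilpotent (↥M ⧸ F) := hC.fit M (hC.ctr_ne_top hM)
  have hnilE : Group.IsNilpotent E' := by
    refine Cores.isNilpotent_of_injective ((QuotientGroup.mk' F).comp E'.subtype) ?_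
    rw [← MonoidHom.ker_eq_bot_iff, eq_bot_iff]
    intro w hw
    have h1 : ((w : E') : M) ∈ F ⊓ E' :=
      ⟨(QuotientGroup.eq_one_iff (N := F) (w : M)).1 hw, w.2⟩
    rw [hdis, Subgroup.mem_bot] at h1
    exact Subgroup.mem_bot.2 (Subtype.ext h1)
  have hEN : ∀ w ∈ E', (w : S) ∈ N := by
    intro w hw
    refine mem_of_parts (N.comap M.subtype) fun r hr x hx hxr => ?_
    haveI : Fact r.Prime := ⟨hr⟩
    have hxE : x ∈ E' := (Subgroup.zpowers_le.2 hw) hx
    by_cases hrq : r = q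
    · subst hrq
      obtain ⟨R, hR, -, hall, -⟩ := exists_pGroup_of_nilpotent hnilE r
      obtain ⟨R', hR'⟩ := (hR.map M.subtype).exists_le_sylow
      have he' : e ∈ (R' : Subgroup S) := hR' ⟨_, hall _ heE hqel, rfl⟩
      have hctr : Ctr V r e (mOf V R') := ⟨hr, hN.2.1, R', he', rfl⟩
      rw [hC.ctr_unique hN hctr]
      exact hC.le_mOf R' (hR' ⟨_, hall _ hxE hxr, rfl⟩)
    · have hxe : IsPEl r (⟨x, hxE⟩ : E') := by
        obtain ⟨i, hi⟩ := hxr
        exact ⟨i, by rw [Subgroup.orderOf_mk, hi]⟩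
      have hee : IsPEl q (⟨⟨e, heM⟩, heE⟩ : E') := by
        obtain ⟨i, hi⟩ := hqel
        exact ⟨i, by rw [Subgroup.orderOf_mk, hi]⟩
      have hc := (commute_of_nilpotent hnilE hrq hxe hee).map E'.subtype |>.map M.subtype
      exact hC.centralizer_le hN (Subgroup.mem_centralizer_singleton_iff.2 hc.eq)
  set I : Subgroup M := N.subgroupOf M with hI
  have htop : I ⊔ F = ⊤ := by
    rw [eq_top_iff]
    have hle : E' ⊔ F ≤ I ⊔ F := sup_le_sup_right (fun w hw => hEN w hw) F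
    refine le_trans ?_ hle
    have h1 : E' ⊔ F = ⊤ := by
      apply Subgroup.eq_top_of_le_card
      have h2 := Cores.card_sup_mul_card_inf E' F
      rw [inf_comm, hdis, Subgroup.card_bot, mul_one, hEcard, mul_comm] at h2
      rw [h2, hE.card_mul]
    exact h1.ge
  have h := Cores.card_sup_mul_card_inf I F
  rw [htop, Subgroup.card_top] at h
  have h3 : Nat.card ↥(I ⊓ F) = Nat.card ↥(fitOf M ⊓ N) := by
    rw [← Subgroup.card_map_of_injective M.subtype_injective (K := I ⊓ F),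
      Subgroup.map_inf _ _ _ M.subtype_injective, hI, Subgroup.subgroupOf_map_subtype]
    have he : F.map M.subtype ⊓ (N ⊓ M) = fitOf M ⊓ N :=
      le_antisymm (inf_le_inf_left _ inf_le_left) (le_inf inf_le_left (le_inf inf_le_right (inf_le_left.trans (fitOf_le M))))
    rw [inf_comm (F.map M.subtype)] at he
    rw [← he, inf_comm]
  have h4 : Nat.card I = Nat.card ↥(M ⊓ N) := by
    rw [← Subgroup.card_map_of_injective M.subtype_injective (K := I), hI,
      Subgroup.subgroupOf_map_subtype, inf_comm]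
  have h5 : Nat.card F = Nat.card ↥(fitOf M) :=
    (Subgroup.card_map_of_injective M.subtype_injective).symm
  rw [h3, h4, h5, mul_comm (Nat.card ↥(M ⊓ N))] at h
  exact h

/-- The intersection of two maximal subgroups with commuting owned elements. -/
theorem inter_nilpotent (hC : Config S V) {p q : ℕ} {u e : S} {M N : Subgroup S}
    (hM : Ctr V p u M) (hN : Ctr V q e N) (hne : M ≠ N) : Group.IsNilpotent ↥(M ⊓ N) := by
  haveI := fitting_normal (S := S) M
  haveI := fitting_normal (S := S) N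
  haveI : Group.IsNilpotent (↥M ⧸ Cfsg.fittingSubgroup M) := hC.fit M (hC.ctr_ne_top hM)
  haveI : Group.IsNilpotent (↥N ⧸ Cfsg.fittingSubgroup N) := hC.fit N (hC.ctr_ne_top hN)
  refine Cores.isNilpotent_of_injective
    (((QuotientGroup.mk' (Cfsg.fittingSubgroup M)).comp
      (Subgroup.inclusion (inf_le_left : M ⊓ N ≤ M))).prod
      ((QuotientGroup.mk' (Cfsg.fittingSubgroup N)).comp
        (Subgroup.inclusion (inf_le_right : M ⊓ N ≤ N)))) ?_
  rw [← MonoidHom.ker_eq_bot_iff, eq_bot_iff]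
  intro w hw
  rw [MonoidHom.mem_ker, MonoidHom.prod_apply, Prod.mk_eq_one] at hw
  exact Subgroup.mem_bot.2 (Subtype.ext (hC.fitOf_inf hM hN hne
    ⟨_, (QuotientGroup.eq_one_iff _).1 hw.1, rfl⟩ ⟨_, (QuotientGroup.eq_one_iff _).1 hw.2, rfl⟩))

/-- Every owned element of the intersection has a maximal subgroup containing it. -/
theorem inter_le (hC : Config S V) {I : Subgroup S} (hI : Group.IsNilpotent I) {r : ℕ} {c : S}
    {L : Subgroup S} (hc : c ∈ I) (hL : Ctr V r c L) : I ≤ L := by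
  have hr : r.Prime := hL.1
  haveI : Fact r.Prime := ⟨hr⟩
  intro w hw
  refine mem_of_parts L fun s hs x hx hxs => ?_
  haveI : Fact s.Prime := ⟨hs⟩
  have hxI : x ∈ I := (Subgroup.zpowers_le.2 hw) hx
  by_cases hsr : s = r
  · subst hsr
    obtain ⟨R, hR, -, hall, -⟩ := exists_pGroup_of_nilpotent hI s
    obtain ⟨R', hR'⟩ := hR.exists_le_sylow
    have hctr : Ctr V s c (mOf V R') := ⟨hr, hL.2.1, R', hR' (hall _ hc (ctr_pel hL)), rfl⟩
    rw [hC.ctr_unique hL hctr]
    exact hC.le_mOf R' (hR' (hall _ hxI hxs))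
  · have h1 : IsPEl s (⟨x, hxI⟩ : I) := by
      obtain ⟨i, hi⟩ := hxs
      exact ⟨i, by rw [Subgroup.orderOf_mk, hi]⟩
    have h2 : IsPEl r (⟨c, hc⟩ : I) := by
      obtain ⟨i, hi⟩ := ctr_pel hL
      exact ⟨i, by rw [Subgroup.orderOf_mk, hi]⟩
    exact hC.centralizer_le hL (Subgroup.mem_centralizer_singleton_iff.2
      ((commute_of_nilpotent hI hsr h1 h2).map I.subtype).eq)

theorem commute_of_ne (hC : Config S V) {I : Subgroup S} (hI : Group.IsNilpotent I) {r s : ℕ}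
    {c d : S} {L K : Subgroup S} (hc : c ∈ I) (hd : d ∈ I) (hL : Ctr V r c L) (hK : Ctr V s d K)
    (hne : L ≠ K) : Commute c d := by
  haveI : Fact r.Prime := ⟨hL.1⟩
  haveI : Fact s.Prime := ⟨hK.1⟩
  have hrs : r ≠ s := by
    rintro rfl
    exact hne (hC.ctr_unique (hC.ctr_of_mem hL (hC.inter_le hI hc hL hd) (ctr_pel hK) hK.2.1) hK)
  have h2 : IsPEl r (⟨c, hc⟩ : I) := by
    obtain ⟨i, hi⟩ := ctr_pel hL
    exact ⟨i, by rw [Subgroup.orderOf_mk, hi]⟩
  have h1 : IsPEl s (⟨d, hd⟩ : I) := by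
    obtain ⟨i, hi⟩ := ctr_pel hK
    exact ⟨i, by rw [Subgroup.orderOf_mk, hi]⟩
  exact (commute_of_nilpotent hI hrs h2 h1).map I.subtype

set_option maxHeartbeats 1000000 in
/-- Commuting owned elements have the same maximal subgroup. -/
theorem ctr_eq_of_commute (hC : Config S V)
    (hsol : ∀ K : Subgroup S, K ≠ ⊤ → Group.IsSolvable K) {p q : ℕ} {u e : S} {M N : Subgroup S}
    (hM : Ctr V p u M) (hN : Ctr V q e N) (hue : Commute u e) : M = N := by
  classical
  by_contra hne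
  set I := M ⊓ N with hIdef
  have hI : Group.IsNilpotent I := hC.inter_nilpotent hM hN hne
  have huI : u ∈ I := ⟨hC.centralizer_le hM (Subgroup.mem_centralizer_singleton_iff.2 rfl),
    hC.centralizer_le hN (Subgroup.mem_centralizer_singleton_iff.2 hue.eq)⟩
  have heI : e ∈ I := ⟨hC.centralizer_le hM (Subgroup.mem_centralizer_singleton_iff.2 hue.symm.eq),
    hC.centralizer_le hN (Subgroup.mem_centralizer_singleton_iff.2 rfl)⟩
  haveI : Fintype S := Fintype.ofFinite S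
  haveI : Fintype (Subgroup S) := Fintype.ofFinite _
  -- the maximal subgroups of the elements of `I`
  set J : Finset (Subgroup S) :=
    Finset.univ.filter (fun L => ∃ r c, c ∈ I ∧ Ctr V r c L) with hJdef
  have hJmem : ∀ L, L ∈ J ↔ ∃ r c, c ∈ I ∧ Ctr V r c L := fun L => by simp [hJdef]
  have hMJ : M ∈ J := (hJmem M).2 ⟨p, u, huI, hM⟩
  have hNJ : N ∈ J := (hJmem N).2 ⟨q, e, heI, hN⟩
  have hpair : ∀ L ∈ J, ∀ K ∈ J, L ≠ K → L ⊓ K = I := by
    intro L hL K hK hLK
    obtain ⟨r, c, hc, hcL⟩ := (hJmem L).1 hL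
    obtain ⟨s, d, hd, hdK⟩ := (hJmem K).1 hK
    have h1 : I ≤ L ⊓ K := le_inf (hC.inter_le hI hc hcL) (hC.inter_le hI hd hdK)
    have h2 := hC.inter_nilpotent hcL hdK hLK
    exact le_antisymm (le_inf (hC.inter_le h2 (h1 huI) hM) (hC.inter_le h2 (h1 heI) hN)) h1
  have hother : ∀ L ∈ J, ∃ K ∈ J, L ≠ K := by
    intro L hL
    by_cases h : L = M
    · exact ⟨N, hNJ, h ▸ hne⟩
    · exact ⟨M, hMJ, h⟩
  have hIlt : ∀ L ∈ J, I ≤ L ∧ I ≠ L := by
    intro L hL
    obtain ⟨K, hK, hLK⟩ := hother L hL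
    obtain ⟨r, c, hc, hcL⟩ := (hJmem L).1 hL
    obtain ⟨s, d, hd, hdK⟩ := (hJmem K).1 hK
    refine ⟨hC.inter_le hI hc hcL, fun h => hLK (hC.eq_of_le hcL hdK ?_)⟩
    rw [← h, ← hpair L hL K hK hLK]; exact inf_le_right
  have hdec : ∀ L ∈ J, Nat.card L * Nat.card ↥(fitOf L ⊓ I) =
      Nat.card ↥(fitOf L) * Nat.card I := by
    intro L hL
    obtain ⟨K, hK, hLK⟩ := hother L hL
    obtain ⟨r, c, hc, hcL⟩ := (hJmem L).1 hL
    obtain ⟨s, d, hd, hdK⟩ := (hJmem K).1 hK
    have h := hC.decompose hsol hcL hdK hLK (hC.commute_of_ne hI hc hd hcL hdK hLK)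
    have h1 : fitOf L ⊓ K = fitOf L ⊓ I := by
      rw [← hpair L hL K hK hLK, ← inf_assoc, inf_eq_left.2 (fitOf_le L)]
    rw [h1, hpair L hL K hK hLK] at h
    exact h
  -- conjugation inside `J`
  have hconj : ∀ L ∈ J, ∀ K ∈ J, ∀ x : S, L.map (MulAut.conj x).toMonoidHom = K → L = K ∧ x ∈ L := by
    intro L hL K hK x hx
    obtain ⟨r, c, hc, hcL⟩ := (hJmem L).1 hL
    obtain ⟨s, d, hd, hdK⟩ := (hJmem K).1 hK
    have h1 := hC.ctr_conj hcL x
    rw [hx] at h1
    have hLK : L = K := hC.ctr_unique hcL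
      (hC.ctr_of_mem h1 (hC.inter_le hI hd hdK hc) (ctr_pel hcL) hcL.2.1)
    subst hLK
    refine ⟨rfl, ?_⟩
    rw [← hC.normalizer_eq hcL]
    intro w
    refine ⟨fun hw => hx ▸ ⟨w, hw, rfl⟩, fun hw => ?_⟩
    rw [SetLike.mem_coe, ← hx] at hw
    obtain ⟨w', hw', hww⟩ := hw
    exact (MulAut.conj x).injective hww ▸ hw'
  set A : Finset S :=
    Finset.univ.filter (fun g => g ∈ I ∧ g ≠ 1 ∧ ∀ L ∈ J, g ∉ fitOf L) with hA
  have hAmem : ∀ g, g ∈ A ↔ g ∈ I ∧ g ≠ 1 ∧ ∀ L ∈ J, g ∉ fitOf L := fun g => by simp [hA]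
  set B : Subgroup S → Finset S := fun L =>
    Finset.univ.filter (fun g => g ∈ fitOf L ∧ g ≠ 1) with hB
  have hBmem : ∀ L g, g ∈ B L ↔ g ∈ fitOf L ∧ g ≠ 1 := fun L g => by simp [hB]
  have hBcard : ∀ L, (B L).card + 1 = Nat.card ↥(fitOf L) := by
    intro L
    have h : (Finset.univ.filter (fun g => g ∈ fitOf L)) = insert 1 (B L) := by
      ext g
      simp only [Finset.mem_filter, Finset.mem_univ, true_and, Finset.mem_insert, hBmem]
      by_cases hg : g = 1
      · simp [hg]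
      · simp [hg]
    rw [Nat.card_eq_fintype_card, Fintype.card_subtype, h,
      Finset.card_insert_of_notMem (fun hh => ((hBmem L 1).1 hh).2 rfl)]
  set C : Subgroup S → Finset S := fun L =>
    Finset.univ.filter (fun g => g ∈ fitOf L ⊓ I ∧ g ≠ 1) with hCdef
  have hCmem : ∀ L g, g ∈ C L ↔ g ∈ fitOf L ⊓ I ∧ g ≠ 1 := fun L g => by simp [hCdef]
  have hCcard : ∀ L, (C L).card + 1 = Nat.card ↥(fitOf L ⊓ I) := by
    intro L
    have h : (Finset.univ.filter (fun g => g ∈ fitOf L ⊓ I)) = insert 1 (C L) := by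
      ext g
      simp only [Finset.mem_filter, Finset.mem_univ, true_and, Finset.mem_insert, hCmem]
      by_cases hg : g = 1
      · simp [hg]
      · simp [hg]
    rw [Nat.card_eq_fintype_card, Fintype.card_subtype, h,
      Finset.card_insert_of_notMem (fun hh => ((hCmem L 1).1 hh).2 rfl)]
  have hIcard : Nat.card I = 1 + A.card + ∑ L ∈ J, (C L).card := by
    have h : (Finset.univ.filter (fun g => g ∈ I)) = insert 1 (A ∪ J.biUnion C) := by
      ext g
      simp only [Finset.mem_filter, Finset.mem_univ, true_and, Finset.mem_insert, Finset.mem_union,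
        Finset.mem_biUnion, hAmem, hCmem, Subgroup.mem_inf]
      constructor
      · intro hg
        by_cases h1 : g = 1
        · exact Or.inl h1
        by_cases h2 : ∀ L ∈ J, g ∉ fitOf L
        · exact Or.inr (Or.inl ⟨hg, h1, h2⟩)
        · push Not at h2
          obtain ⟨L, hL, hgL⟩ := h2
          exact Or.inr (Or.inr ⟨L, hL, ⟨hgL, hg⟩, h1⟩)
      · rintro (rfl | h | ⟨L, -, ⟨-, h⟩, -⟩)
        · exact one_mem I
        · exact h.1
        · exact h
    rw [Nat.card_eq_fintype_card, Fintype.card_subtype, h, Finset.card_insert_of_notMem,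
      Finset.card_union_of_disjoint, Finset.card_biUnion]
    · ring
    · intro L hL K hK hLK
      rw [Function.onFun, Finset.disjoint_left]
      intro g hg hg'
      obtain ⟨r, c, hc, hcL⟩ := (hJmem L).1 hL
      obtain ⟨s, d, hd, hdK⟩ := (hJmem K).1 hK
      exact ((hCmem L g).1 hg).2
        (hC.fitOf_inf hcL hdK hLK ((hCmem L g).1 hg).1.1 ((hCmem K g).1 hg').1.1)
    · rw [Finset.disjoint_left]
      intro g hg hg'
      obtain ⟨L, hL, hgL⟩ := Finset.mem_biUnion.1 hg'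
      exact ((hAmem g).1 hg).2.2 L hL ((hCmem L g).1 hgL).1.1
    · simp [hAmem, hCmem]
  -- the map to nontrivial elements
  let T := ((Σ L : J, (S ⧸ (L : Subgroup S)) × {f // f ∈ B (L : Subgroup S)})) ⊕
    ((S ⧸ I) × {f // f ∈ A})
  let Φ : T → {g : S // g ≠ 1} := fun x => match x with
    | Sum.inl ⟨L, a, f⟩ => ⟨a.out * f.1 * a.out⁻¹, by
        simpa using ((hBmem L f.1).1 f.2).2⟩
    | Sum.inr ⟨a, f⟩ => ⟨a.out * f.1 * a.out⁻¹, by simpa using ((hAmem f.1).1 f.2).2.1⟩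
  have hpow : ∀ (x g z : S), z ∈ Subgroup.zpowers g → x * z * x⁻¹ ∈ Subgroup.zpowers (x * g * x⁻¹) := by
    rintro x g z ⟨i, rfl⟩
    exact ⟨i, conj_zpow⟩
  -- a part of an element of `fitOf L` gives the subgroup of the conjugate
  have hfit : ∀ L ∈ J, ∀ (x f : S), f ∈ fitOf L → ∀ r : ℕ, r.Prime →
      ∀ z ∈ Subgroup.zpowers (x * f * x⁻¹), IsPEl r z → z ≠ 1 →
      Ctr V r z (L.map (MulAut.conj x).toMonoidHom) := by
    intro L hL x f hf r hr z hz hzr hz1
    obtain ⟨s, c, hc, hcL⟩ := (hJmem L).1 hL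
    have h1 : x⁻¹ * z * x ∈ Subgroup.zpowers f := by
      have := hpow x⁻¹ _ z hz
      rw [inv_inv] at this
      have he : x⁻¹ * (x * f * x⁻¹) * x = f := by group
      rwa [he] at this
    have h2 : IsPEl r (x⁻¹ * z * x) := by simpa using hzr.conj x⁻¹
    have h3 : x⁻¹ * z * x ≠ 1 := by
      intro h
      apply hz1
      calc z = x * (x⁻¹ * z * x) * x⁻¹ := by group
        _ = 1 := by rw [h]; group
    have h4 := hC.ctr_conj (hC.ctr_of_mem_fitOf hr hcL ((Subgroup.zpowers_le.2 hf) h1) h2 h3) x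
    have he : x * (x⁻¹ * z * x) * x⁻¹ = z := by group
    rwa [he] at h4
  have hAfit : ∀ g ∈ A, ∀ L ∈ J, ∀ x f : S, f ∈ fitOf L → x * f * x⁻¹ ≠ g := by
    intro g hg L hL x f hf hxf
    obtain ⟨hgI, hg1, hgJ⟩ := (hAmem g).1 hg
    obtain ⟨r, hr, z, hz, hzr, hz1⟩ := exists_part hg1
    obtain ⟨K, hK⟩ := hC.ctr_exists hr hzr hz1
    have hKJ : K ∈ J := (hJmem K).2 ⟨r, z, (Subgroup.zpowers_le.2 hgI) hz, hK⟩
    have hKe : K = L.map (MulAut.conj x).toMonoidHom :=
      hC.ctr_unique hK (hfit L hL x f hf r hr z (hxf ▸ hz) hzr hz1)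
    refine hgJ K hKJ (mem_of_parts _ fun r' hr' z' hz' hzr' => ?_)
    by_cases hz1' : z' = 1
    · rw [hz1']; exact one_mem _
    have h := hfit L hL x f hf r' hr' z' (hxf ▸ hz') hzr' hz1'
    rw [← hKe] at h
    exact hC.mem_fitOf h
  have hAA : ∀ g ∈ A, ∀ g' ∈ A, ∀ x : S, x * g * x⁻¹ = g' → x ∈ I := by
    intro g hg g' hg' x hx
    obtain ⟨hgI, hg1, hgJ⟩ := (hAmem g).1 hg
    obtain ⟨hgI', -, -⟩ := (hAmem g').1 hg'
    obtain ⟨r, hr, z, hz, hzr, hz1⟩ := exists_part hg1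
    obtain ⟨K, hK⟩ := hC.ctr_exists hr hzr hz1
    have hKJ : K ∈ J := (hJmem K).2 ⟨r, z, (Subgroup.zpowers_le.2 hgI) hz, hK⟩
    obtain ⟨s, hs, z', hz', hzs, hz1', hnot⟩ : ∃ s : ℕ, s.Prime ∧ ∃ z' ∈ Subgroup.zpowers g,
        IsPEl s z' ∧ z' ≠ 1 ∧ z' ∉ fitOf K := by
      by_contra h
      push Not at h
      refine hgJ K hKJ (mem_of_parts _ fun s hs z' hz' hzs => ?_)
      by_cases hz1' : z' = 1
      · rw [hz1']; exact one_mem _
      exact h s hs z' hz' hzs hz1'
    obtain ⟨L, hL⟩ := hC.ctr_exists hs hzs hz1'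
    have hLJ : L ∈ J := (hJmem L).2 ⟨s, z', (Subgroup.zpowers_le.2 hgI) hz', hL⟩
    have hKL : K ≠ L := fun h => hnot (h ▸ hC.mem_fitOf hL)
    have key : ∀ (t : ℕ) (y : S) (P : Subgroup S), P ∈ J → y ∈ Subgroup.zpowers g →
        Ctr V t y P → x ∈ P := by
      intro t y P hP hy hyP
      have h1 := hC.ctr_conj hyP x
      have h2 : x * y * x⁻¹ ∈ I := (Subgroup.zpowers_le.2 hgI') (hx ▸ hpow x g y hy)
      exact (hconj P hP _ ((hJmem _).2 ⟨t, _, h2, h1⟩) x rfl).2
    rw [← hpair K hKJ L hLJ hKL]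
    exact ⟨key r z K hKJ hz hK, key s z' L hLJ hz' hL⟩
  have hinj : Function.Injective Φ := by
    have cancel : ∀ (a b f f' : S), a * f * a⁻¹ = b * f' * b⁻¹ → (b⁻¹ * a) * f * (b⁻¹ * a)⁻¹ = f' := by
      intro a b f f' h
      calc (b⁻¹ * a) * f * (b⁻¹ * a)⁻¹ = b⁻¹ * (a * f * a⁻¹) * b := by group
        _ = f' := by rw [h]; group
    rintro (⟨L, a, f⟩ | ⟨a, f⟩) (⟨K, b, f'⟩ | ⟨b, f'⟩) h <;>
      simp only [Φ, Subtype.mk.injEq] at h
    · have hx := cancel _ _ _ _ h
      obtain ⟨hf, hf1⟩ := (hBmem _ _).1 f.2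
      obtain ⟨hf', hf1'⟩ := (hBmem _ _).1 f'.2
      obtain ⟨r, hr, z, hz, hzr, hz1⟩ := exists_part hf1'
      obtain ⟨s, c, hc, hcK⟩ := (hJmem _).1 K.2
      have h1 := hfit L L.2 (b.out⁻¹ * a.out) f.1 hf r hr z (by rw [hx]; exact hz) hzr hz1
      have h2 := hC.ctr_of_mem_fitOf hr hcK ((Subgroup.zpowers_le.2 hf') hz) hzr hz1
      obtain ⟨hLK, hxL⟩ := hconj L L.2 K K.2 _ (hC.ctr_unique h1 h2)
      obtain rfl : L = K := Subtype.ext hLK
      have hab : b = a := by
        rw [← QuotientGroup.out_eq' b, ← QuotientGroup.out_eq' a, QuotientGroup.eq]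
        exact hxL
      subst hab
      rw [inv_mul_cancel, one_mul, inv_one, mul_one] at hx
      obtain rfl : f = f' := Subtype.ext hx
      rfl
    · exact absurd (cancel _ _ _ _ h) (hAfit _ f'.2 L L.2 _ _ ((hBmem _ _).1 f.2).1)
    · exact absurd (cancel _ _ _ _ h.symm) (hAfit _ f.2 K K.2 _ _ ((hBmem _ _).1 f'.2).1)
    · have hx := cancel _ _ _ _ h
      have hxI := hAA _ f.2 _ f'.2 _ hx
      have hab : b = a := by
        rw [← QuotientGroup.out_eq' b, ← QuotientGroup.out_eq' a, QuotientGroup.eq]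
        exact hxI
      subst hab
      rw [inv_mul_cancel, one_mul, inv_one, mul_one] at hx
      obtain rfl : f = f' := Subtype.ext hx
      rfl
  have hcard := Nat.card_le_card_of_injective Φ hinj
  have hT : Nat.card T = (∑ L ∈ J, L.index * (B L).card) + I.index * A.card := by
    simp only [T, Nat.card_sum, Nat.card_sigma, Nat.card_prod, Nat.card_eq_finsetCard, Subgroup.index]
    congr 1
    exact Finset.sum_coe_sort J (fun L => Nat.card (S ⧸ L) * (B L).card)
  have hG : Nat.card {g : S // g ≠ 1} + 1 = Nat.card S := by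
    rw [Nat.card_eq_fintype_card, Nat.card_eq_fintype_card, Fintype.card_subtype_compl,
      Fintype.card_subtype_eq]
    have : 0 < Fintype.card S := Fintype.card_pos
    omega
  rw [hT] at hcard
  have hterm : ∀ L ∈ J, L.index * (B L).card + L.index =
      I.index * (C L).card + I.index := by
    intro L hL
    have h1 := L.card_mul_index
    have h2 := I.card_mul_index
    have h3 := hdec L hL
    rw [← hBcard L, ← hCcard L] at h3
    have hpos : 0 < Nat.card I := Nat.card_pos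
    refine Nat.eq_of_mul_eq_mul_left (Nat.mul_pos hpos (Nat.card_pos : 0 < Nat.card L)) ?_
    calc Nat.card I * Nat.card L * (L.index * (B L).card + L.index)
        = ((B L).card + 1) * Nat.card I * (Nat.card L * L.index) := by ring
      _ = Nat.card L * ((C L).card + 1) * (Nat.card I * I.index) := by rw [h1, h2, h3]
      _ = Nat.card I * Nat.card L * (I.index * (C L).card + I.index) := by ring
  have hsum : (∑ L ∈ J, L.index * (B L).card) + ∑ L ∈ J, L.index =
      I.index * (∑ L ∈ J, (C L).card) + J.card * I.index := by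
    rw [← Finset.sum_add_distrib, Finset.sum_congr rfl hterm, Finset.sum_add_distrib, Finset.mul_sum,
      Finset.sum_const, smul_eq_mul]
  have hhalf : 2 * ∑ L ∈ J, L.index ≤ J.card * I.index := by
    rw [Finset.mul_sum]
    refine (Finset.sum_le_card_nsmul _ _ _ fun L hL => ?_).trans_eq (smul_eq_mul _ _)
    rw [← Subgroup.relIndex_mul_index (hIlt L hL).1]
    refine Nat.mul_le_mul_right _ ?_
    have h1 : I.relIndex L ≠ 1 := fun h =>
      (hIlt L hL).2 (le_antisymm (hIlt L hL).1 (Subgroup.relIndex_eq_one.1 h))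
    have h0 : I.relIndex L ≠ 0 := fun h => by
      have := Subgroup.relIndex_mul_index (hIlt L hL).1
      rw [h, zero_mul] at this
      exact Subgroup.index_ne_zero_of_finite this.symm
    omega
  have hG' : Nat.card S = I.index * (1 + A.card + ∑ L ∈ J, (C L).card) := by
    rw [← hIcard, mul_comm, I.card_mul_index]
  have hJ2 : 2 ≤ J.card := Finset.one_lt_card.2 ⟨M, hMJ, N, hNJ, hne⟩
  have hIpos : 0 < I.index := Nat.pos_of_ne_zero Subgroup.index_ne_zero_of_finite
  nlinarith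

/-- The configuration has nilpotent centralisers. -/
theorem isCN (hC : Config S V) (hsol : ∀ K : Subgroup S, K ≠ ⊤ → Group.IsSolvable K) :
    Cfsg.IsCNGroup S := by
  intro g hg
  obtain ⟨r, hr, u, hu, hur, hu1⟩ := exists_part hg
  obtain ⟨M, hM⟩ := hC.ctr_exists hr hur hu1
  have hle : Subgroup.centralizer {g} ≤ Subgroup.centralizer {u} := by
    intro x hx
    rw [Subgroup.mem_centralizer_singleton_iff] at hx ⊢
    obtain ⟨i, rfl⟩ := hu
    exact ((show Commute x g from hx).zpow_right i).eq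
  have hle2 : Subgroup.centralizer {g} ≤ fitOf M := by
    refine hle.trans fun x hx => mem_of_parts _ fun s hs z hz hzs => ?_
    by_cases hz1 : z = 1
    · rw [hz1]; exact one_mem _
    obtain ⟨N, hN⟩ := hC.ctr_exists hs hzs hz1
    have hzu := (Subgroup.zpowers_le.2 hx) hz
    rw [Subgroup.mem_centralizer_singleton_iff] at hzu
    rw [hC.ctr_eq_of_commute hsol hM hN (show Commute u z from hzu.symm)]
    exact hC.mem_fitOf hN
  haveI := Cores.fittingSubgroup_isNilpotent M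
  haveI : Group.IsNilpotent ↥(fitOf M) := Cores.isNilpotent_map _ _
  exact Cores.isNilpotent_of_injective (Subgroup.inclusion hle2) (Subgroup.inclusion_injective hle2)

end Config

end Cfsg.Agent.Lib.CoprimeValues
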