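import Cfsg.Agent.Lib.CoprimeValues.Solvable
import Cfsg.Agent.Lib.CoprimeValues.Count
import Cfsg.Agent.Lib.Transfer.Frobenius
import Cfsg.Agent.Lib.Involutions.BaerSuzuki
import Cfsg.Agent.Lib.Characters.CNTheorem

/-!
The coprime order condition forces solubility.
-/

set_option autoImplicit false
set_option linter.style.haveILetI false
set_option linter.unusedVariables false
set_option linter.unusedSectionVars false

namespace Cfsg.Agent.Lib.CoprimeValues

open scoped commutatorElement

universe u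

theorem Cond.of_injective {k : ℕ} {G : Type*} [Group G] {H : Type*} [Group H] (hG : Cond k G)
    (f : H →* G) (hf : Function.Injective f) : Cond k H := by
  intro x y hx hy hco
  have := hG (f x) (f y) (hx.map f) (hy.map f)
  rw [← map_mul, orderOf_injective f hf, orderOf_injective f hf, orderOf_injective f hf] at this
  exact this hco

section

variable {G : Type u} [Group G] [Finite G] {k : ℕ} (N : Subgroup G) [N.Normal]

/-- Images of values of prime-power order outside `N`. -/
def valImage (k : ℕ) (p : ℕ) (t : G ⧸ N) : Prop :=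
  t ≠ 1 ∧ ∃ x : G, IsVal k x ∧ IsPEl p x ∧ QuotientGroup.mk' N x = t

variable {N}

/-- A `p`-subgroup of the quotient is the image of a `p`-subgroup normalised by suitable lifts. -/
theorem exists_lift_normalizing {p r : ℕ} [Fact p.Prime] [Fact r.Prime] {Q : Subgroup (G ⧸ N)}
    (hQ : IsPGroup p Q) {g : G ⧸ N} (hg : g ∈ Subgroup.normalizer (Q : Set (G ⧸ N)))
    (hgr : IsPEl r g) :
    ∃ (P0 : Subgroup G) (n : G), IsPGroup p P0 ∧ P0.map (QuotientGroup.mk' N) = Q ∧ IsPEl r n ∧
      n ∈ Subgroup.normalizer (P0 : Set G) ∧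
      ∃ c ∈ Q, QuotientGroup.mk' N n = c * g ∧ IsPEl r (c * g) := by
  let π := QuotientGroup.mk' N
  have hπ : Function.Surjective π := QuotientGroup.mk'_surjective N
  set K : Subgroup G := (Subgroup.normalizer (Q : Set (G ⧸ N))).comap π with hK
  set L : Subgroup G := Q.comap π with hL
  have hLK : L ≤ K := Subgroup.comap_mono Subgroup.le_normalizer
  haveI : (L.subgroupOf K).Normal := by
    refine (Subgroup.normal_subgroupOf_iff_le_normalizer hLK).2 ?_
    exact Subgroup.le_normalizer_comap π
  obtain ⟨g0, rfl⟩ := hπ g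
  obtain ⟨R⟩ := (inferInstance : Nonempty (Sylow p (L.subgroupOf K)))
  set P1 : Subgroup K := (R : Subgroup (L.subgroupOf K)).map (L.subgroupOf K).subtype with hP1
  have htop := Sylow.normalizer_sup_eq_top R
  obtain ⟨m, hm, l, hl, hml⟩ := Subgroup.mem_sup_of_normal_right.1
    (show (⟨g0, hg⟩ : K) ∈ Subgroup.normalizer (P1 : Set K) ⊔ L.subgroupOf K by
      rw [htop]; exact Subgroup.mem_top _)
  set P0 : Subgroup G := P1.map K.subtype with hP0
  have himg : P0.map π = Q := by
    refine le_antisymm ?_ ?_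
    · rintro _ ⟨_, ⟨_, ⟨x, -, rfl⟩, rfl⟩, rfl⟩
      exact x.2
    · have hs : Function.Surjective
          ((π.comp K.subtype).comp (L.subgroupOf K).subtype |>.codRestrict Q (fun x => x.2)) := by
        rintro ⟨w, hw⟩
        obtain ⟨w0, rfl⟩ := hπ w
        exact ⟨⟨⟨w0, hLK hw⟩, hw⟩, rfl⟩
      have htop' := ((R.mapSurjective hs : Sylow p Q)).3 (hQ.to_subgroup ⊤) le_top
      intro w hw
      have hmem : (⟨w, hw⟩ : Q) ∈ ((R.mapSurjective hs : Sylow p Q) : Subgroup Q) := by
        rw [← htop']; exact Subgroup.mem_top _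
      rw [Sylow.coe_mapSurjective] at hmem
      obtain ⟨v, hv, hvw⟩ := hmem
      exact ⟨_, ⟨_, ⟨v, hv, rfl⟩, rfl⟩, congrArg Subtype.val hvw⟩
  have hn0 : (m : G) ∈ Subgroup.normalizer (P0 : Set G) :=
    Subgroup.le_normalizer_map K.subtype ⟨m, hm, rfl⟩
  have hgm : (m : G) * (l : G) = g0 := congrArg Subtype.val hml
  have hlQ : π (l : G) ∈ Q := hl
  -- take the `r`-part of the normalising element
  have hgn : π g0 ∈ Subgroup.normalizer (Q : Set (G ⧸ N)) := hg
  obtain ⟨n, hn1, hn2, hn3⟩ : ∃ n : G, n ∈ Subgroup.zpowers (m : G) ∧ IsPEl r n ∧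
      ∃ c ∈ Q, π n = c * π g0 := by
    obtain ⟨i, hi⟩ := hgr
    obtain ⟨a, b, hb, hab⟩ := Nat.exists_eq_pow_mul_and_not_dvd
      (orderOf_pos (m : G)).ne' r (Fact.out : r.Prime).ne_one
    have hco : (r ^ (a + i)).Coprime b :=
      Nat.Coprime.pow_left _ (((Fact.out : r.Prime).coprime_iff_not_dvd).2 hb)
    obtain ⟨e, he1, he2⟩ := Nat.chineseRemainder hco 1 0
    refine ⟨(m : G) ^ e, Subgroup.pow_mem _ (Subgroup.mem_zpowers _) _, ?_, ?_⟩
    · have h1 : ((m : G) ^ e) ^ r ^ a = 1 := by
        rw [← pow_mul, ← orderOf_dvd_iff_pow_eq_one, hab, mul_comm e]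
        exact mul_dvd_mul_left _ (Nat.modEq_zero_iff_dvd.1 he2)
      obtain ⟨j, -, hj⟩ := (Nat.dvd_prime_pow (Fact.out : r.Prime)).1 (orderOf_dvd_of_pow_eq_one h1)
      exact ⟨j, hj⟩
    · set NQ := Subgroup.normalizer (Q : Set (G ⧸ N))
      set Q' : Subgroup NQ := Q.subgroupOf NQ
      haveI : Q'.Normal := Subgroup.normal_in_normalizer
      have hmN : π (m : G) ∈ NQ := m.2
      let ρ := QuotientGroup.mk' Q'
      have h2 : ρ ⟨π (m : G), hmN⟩ = ρ ⟨π g0, hgn⟩ := by
        refine QuotientGroup.eq.2 ?_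
        show (π (m : G))⁻¹ * π g0 ∈ Q
        rw [← hgm, map_mul, inv_mul_cancel_left]; exact hlQ
      have h3 : ρ ⟨π (m : G), hmN⟩ ^ e = ρ ⟨π g0, hgn⟩ := by
        rw [h2]
        conv_rhs => rw [← pow_one (ρ ⟨π g0, hgn⟩)]
        rw [pow_eq_pow_iff_modEq]
        refine (he1.of_dvd (pow_dvd_pow r (Nat.le_add_left i a))).of_dvd ?_
        refine (orderOf_map_dvd ρ _).trans ?_
        rw [Subgroup.orderOf_mk, hi]
      rw [← map_pow] at h3
      have h4 := QuotientGroup.eq.1 h3.symm
      refine ⟨π g0 * ((π g0)⁻¹ * π (m : G) ^ e) * (π g0)⁻¹, (hgn _).1 h4, ?_⟩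
      rw [map_pow]; group
  obtain ⟨c, hc, hcn⟩ := hn3
  refine ⟨P0, n, (R.2.map _).map _, himg, hn2, (Subgroup.zpowers_le.2 hn0) hn1, c, hc, hcn, ?_⟩
  rw [← hcn]; exact hn2.map π

variable (hk : Cond k G) [hS : IsSimpleGroup (G ⧸ N)] (hns : ¬ Group.IsSolvable (G ⧸ N))
include hk hns

theorem not_pGroup_quot {p : ℕ} [Fact p.Prime] : ¬ IsPGroup p (G ⧸ N) := fun h => by
  haveI := h.isNilpotent
  exact hns inferInstance

/-- Every prime divisor of the quotient has a `p`-element normalising and not centralising. -/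
theorem exists_value_data {p : ℕ} [hp : Fact p.Prime] (hd : p ∣ Nat.card (G ⧸ N)) :
    ∃ (P0 : Subgroup G) (n : G), IsPGroup p P0 ∧ n ∈ Subgroup.normalizer (P0 : Set G) ∧
      (orderOf (QuotientGroup.mk' N n)).Coprime (Nat.card ↥(P0.map (QuotientGroup.mk' N))) ∧
      ∃ a ∈ P0, ⁅QuotientGroup.mk' N a, QuotientGroup.mk' N n⁆ ≠ 1 := by
  by_contra hno
  have hnpc : Cfsg.HasNormalPComplement p (G ⧸ N) := by
    refine Transfer.hasNormalPComplement_of_frobenius default fun Q hQ g hg hgp => ?_
    have hQp : IsPGroup p Q := (default : Sylow p (G ⧸ N)).2.to_le hQ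
    refine mem_of_parts _ fun r hr x hx hxr => ?_
    haveI : Fact r.Prime := ⟨hr⟩
    by_cases hx1 : x = 1
    · rw [hx1]; exact one_mem _
    have hrp : r ≠ p := by
      rintro rfl
      obtain ⟨i, hi⟩ := hxr
      rcases Nat.eq_zero_or_pos i with h0 | h0
      · exact hx1 (orderOf_eq_one_iff.1 (by rw [hi, h0, pow_zero]))
      · exact hr.not_dvd_one (hgp ▸ Nat.dvd_gcd
          ((dvd_pow_self r h0.ne').trans (hi ▸ orderOf_dvd_of_mem_zpowers hx)) dvd_rfl)
    obtain ⟨P0, n, hP0, himg, hn, hnN, c, hc, hcn, hcr⟩ :=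
      exists_lift_normalizing hQp ((Subgroup.zpowers_le.2 hg) hx) hxr
    have hcen : ∀ a ∈ Q, Commute a (c * x) := by
      intro a ha
      rw [← himg] at ha
      obtain ⟨a0, ha0, rfl⟩ := ha
      rw [← hcn, ← commutatorElement_eq_one_iff_commute]
      by_contra h
      refine hno ⟨P0, n, hP0, hnN, ?_, a0, ha0, h⟩
      exact (hn.map (QuotientGroup.mk' N)).coprime_card hrp (hP0.map _)
    -- `c * x` centralises `Q`, so `x` acts as an inner automorphism of `p`-power order
    have hcx : Commute c x := by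
      have h := (hcen c hc).eq
      exact mul_left_cancel (a := c) (h.trans (mul_assoc _ _ _))
    obtain ⟨i, hi⟩ := isPEl_of_mem hQp hc
    obtain ⟨j, hj⟩ := hxr
    have hmem : c * x ∈ Subgroup.centralizer (Q : Set (G ⧸ N)) :=
      Subgroup.mem_centralizer_iff.2 fun a ha => (hcen a ha).eq
    have h1 : (c * x) ^ (p ^ i) = x ^ (p ^ i) := by
      rw [hcx.mul_pow, ← hi, pow_orderOf_eq_one, one_mul]
    have h2 : x ^ (p ^ i) ∈ Subgroup.centralizer (Q : Set (G ⧸ N)) :=
      h1 ▸ pow_mem hmem _
    obtain ⟨m, hm⟩ := exists_pow_eq_self_of_coprime (x := x) (n := p ^ i)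
      (by rw [hj]; exact Nat.Coprime.pow i j ((Nat.coprime_primes hp.out hr).2 hrp.symm))
    rw [← hm]
    exact pow_mem h2 m
  obtain ⟨P, K, hKn, hK⟩ := hnpc
  rcases hS.eq_bot_or_eq_top_of_normal K hKn with hb | ht
  · subst hb
    exact not_pGroup_quot hk hns (p := p)
      ((P.2).of_equiv ((MulEquiv.subgroupCongr (Subgroup.isComplement'_bot_left.1 hK)).trans
        Subgroup.topEquiv))
  · subst ht
    have hP : (P : Subgroup (G ⧸ N)) = ⊥ := Subgroup.isComplement'_top_left.1 hK
    have h1 := P.dvd_card_of_dvd_card hd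
    rw [hP, Subgroup.card_bot] at h1
    exact hp.out.not_dvd_one h1

/-- Values of `p`-power order outside `N`. -/
theorem exists_valImage {p : ℕ} [hp : Fact p.Prime] (hd : p ∣ Nat.card (G ⧸ N)) :
    ∃ t, valImage N k p t := by
  obtain ⟨P0, n, hP0, hn, hcop, a, ha, hne⟩ := exists_value_data hk hns hd
  by_contra h
  push Not at h
  refine hne (comm_eq_one_of_it (Q := P0.map (QuotientGroup.mk' N))
    (Subgroup.le_normalizer_map _ ⟨n, hn, rfl⟩) hcop k ⟨a, ha, rfl⟩ ?_)
  rw [← map_it]
  by_contra h1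
  exact h _ ⟨h1, _, isVal_it n k a, isPEl_of_mem hP0 (it_mem hn ha k), rfl⟩

end

/-- No group with the condition and soluble proper subgroups is insoluble. -/
theorem false_of_minimal {G : Type u} [Group G] [Finite G] {k : ℕ} (hk : Cond k G)
    (hns : ¬ Group.IsSolvable G) (hsub : ∀ H : Subgroup G, H ≠ ⊤ → Group.IsSolvable H) : False := by
  classical
  -- a maximal normal subgroup
  obtain ⟨N, ⟨hNn, hNt⟩, hNmax⟩ := (Set.toFinite {M : Subgroup G | M.Normal ∧ M ≠ ⊤}).exists_maximal
    ⟨⊥, inferInstance, fun h => hns (by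
      have : Subsingleton G := Subgroup.subsingleton_iff.1 (subsingleton_iff_bot_eq_top.1 h)
      infer_instance)⟩
  haveI := hNn
  have hNs := hsub N hNt
  let π : G →* G ⧸ N := QuotientGroup.mk' N
  have hπ : Function.Surjective π := QuotientGroup.mk'_surjective N
  have hker : ∀ z, π z = 1 ↔ z ∈ N := fun z => QuotientGroup.eq_one_iff z
  have hSns : ¬ Group.IsSolvable (G ⧸ N) := by
    intro h
    haveI := h; haveI := hNs
    exact hns (Group.isSolvable_of_ker_le_range N.subtype π (by simp [π]))
  haveI : Nontrivial (G ⧸ N) := by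
    by_contra h
    rw [not_nontrivial_iff_subsingleton] at h
    exact hSns inferInstance
  haveI hS : IsSimpleGroup (G ⧸ N) := by
    refine ⟨fun H hH => ?_⟩
    by_cases ht : H.comap π = ⊤
    · exact Or.inr (by rw [← Subgroup.map_comap_eq_self_of_surjective hπ H, ht,
        Subgroup.map_top_of_surjective π hπ])
    · refine Or.inl ?_
      have hle : N ≤ H.comap π := fun x hx => by
        rw [Subgroup.mem_comap, (hker x).2 hx]; exact one_mem H
      have := le_antisymm (hNmax ⟨inferInstance, ht⟩ hle) hle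
      rw [← Subgroup.map_comap_eq_self_of_surjective hπ H, this]
      exact QuotientGroup.map_mk'_self N
  have hNf : N ≤ frattini G := by
    refine le_iInf₂ fun M hM => ?_
    by_contra h
    have htop : M ⊔ N = ⊤ := hM.2 _ (lt_of_le_of_ne le_sup_left fun he => h (he ▸ le_sup_right))
    have hs : Function.Surjective (π.comp M.subtype) := by
      intro w
      obtain ⟨g, rfl⟩ := hπ w
      obtain ⟨m, hm, n, hn, rfl⟩ := Subgroup.mem_sup_of_normal_right.1
        (show g ∈ M ⊔ N by rw [htop]; exact Subgroup.mem_top g)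
      exact ⟨⟨m, hm⟩, by simp [(hker n).2 hn]⟩
    haveI := hsub M hM.1
    exact hSns (Group.isSolvable_of_surjective hs)
  have hNnil : Group.IsNilpotent N := by
    haveI : Group.IsNilpotent (frattini G) := frattini_nilpotent
    exact Cores.isNilpotent_of_injective (Subgroup.inclusion hNf) (Subgroup.inclusion_injective hNf)
  have hprime : ∀ r : ℕ, r.Prime → ∃ p : ℕ, p.Prime ∧ p ≠ r ∧ p ∣ Nat.card (G ⧸ N) := by
    intro r hr
    haveI : Fact r.Prime := ⟨hr⟩
    by_contra h
    push Not at h
    refine not_pGroup_quot (p := r) hk hSns (IsPGroup.of_card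
      (n := (Nat.card (G ⧸ N)).primeFactorsList.length)
      (Nat.eq_prime_pow_of_unique_prime_dvd Nat.card_pos.ne' fun {d} hd hdd => ?_))
    by_contra hdr
    exact h d hd hdr hdd
  -- `N` is central
  have hNz : N ≤ Subgroup.center G := by
    intro w hw
    refine mem_of_parts _ fun r hr z hz hzr => ?_
    haveI : Fact r.Prime := ⟨hr⟩
    obtain ⟨R, hR, -, hall, hnorm⟩ := exists_pGroup_of_nilpotent hNnil r
    haveI hRn : R.Normal := Subgroup.normalizer_eq_top_iff.1 <| eq_top_iff.2 fun g _ =>
      hnorm g (by rw [Subgroup.normalizer_eq_top_iff.2 hNn]; exact Subgroup.mem_top g)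
    obtain ⟨p, hp, hpr, hpd⟩ := hprime r hr
    haveI : Fact p.Prime := ⟨hp⟩
    obtain ⟨t, ht1, x, hxv, hxp, hxt⟩ := exists_valImage hk hSns hpd
    have hxC : x ∈ Subgroup.centralizer (R : Set G) := Subgroup.mem_centralizer_iff.2 fun a ha =>
      (hk.centralizes hpr hxv hxp hR
        (by rw [Subgroup.normalizer_eq_top_iff.2 hRn]; exact Subgroup.mem_top x) ha).eq
    have hCt : Subgroup.centralizer (R : Set G) = ⊤ := by
      haveI : (Subgroup.centralizer (R : Set G)).Normal := inferInstance
      rcases hS.eq_bot_or_eq_top_of_normal ((Subgroup.centralizer (R : Set G)).map π)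
        (Subgroup.Normal.map inferInstance π hπ) with hb | htp
      · exact absurd (hxt ▸ Subgroup.mem_bot.1 (hb ▸ ⟨x, hxC, rfl⟩)) ht1
      · refine frattini_nongenerating (eq_top_iff.2 fun g _ => ?_)
        obtain ⟨c, hc, hcg⟩ := (htp ▸ Subgroup.mem_top (π g) :
          π g ∈ (Subgroup.centralizer (R : Set G)).map π)
        have : c⁻¹ * g ∈ frattini G :=
          hNf ((hker _).1 (by rw [map_mul, map_inv, hcg, inv_mul_cancel]))
        have h2 := mul_mem (Subgroup.mem_sup_left hc :
          c ∈ Subgroup.centralizer (R : Set G) ⊔ frattini G) (Subgroup.mem_sup_right this)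
        rwa [mul_inv_cancel_left] at h2
    rw [Subgroup.mem_center_iff]
    intro g
    exact (Subgroup.mem_centralizer_iff.1 (hCt ▸ Subgroup.mem_top g) z
      (hall z ((Subgroup.zpowers_le.2 hw) hz) hzr)).symm
  -- preimages of nilpotent subgroups are nilpotent
  have hpre : ∀ Q : Subgroup (G ⧸ N), Group.IsNilpotent Q → Group.IsNilpotent ↥(Q.comap π) := by
    intro Q hQ
    let φ : ↥(Q.comap π) →* Q := π.subgroupComap Q
    haveI := hQ
    refine Subgroup.isNilpotent_of_ker_le_center φ (fun w hw => ?_)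
    rw [Subgroup.mem_center_iff]
    intro v
    refine Subtype.ext ?_
    exact Subgroup.mem_center_iff.1 (hNz ((hker _).1 (congrArg Subtype.val hw))) v
  have hcent : ∀ p q : ℕ, p.Prime → q.Prime → p ≠ q → ∀ t, valImage N k p t →
      ∀ Q : Subgroup (G ⧸ N), IsPGroup q Q → t ∈ Subgroup.normalizer (Q : Set (G ⧸ N)) →
      ∀ a ∈ Q, Commute a t := by
    intro p q hp hq hpq t ht Q hQ htn a ha
    haveI : Fact p.Prime := ⟨hp⟩
    haveI : Fact q.Prime := ⟨hq⟩
    obtain ⟨-, x, hxv, hxp, rfl⟩ := ht
    obtain ⟨R, hR, -, hall, hnorm⟩ := exists_pGroup_of_nilpotent (hpre Q hQ.isNilpotent) q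
    obtain ⟨a0, rfl⟩ := hπ a
    obtain ⟨a1, ha1, ha2, ha3⟩ := exists_pEl_lift (p := q) π (g := a0) (isPEl_of_mem hQ ha)
    have hxn : x ∈ Subgroup.normalizer ((Q.comap π : Subgroup G) : Set G) := by
      intro w
      simp only [SetLike.mem_coe, Subgroup.mem_comap, map_mul, map_inv]
      exact htn (π w)
    have hc := hk.centralizes hpq hxv hxp hR (hnorm x hxn)
      (hall a1 ((Subgroup.zpowers_le.2 (show a0 ∈ Q.comap π from ha)) ha1) ha2)
    rw [← ha3]
    exact hc.map π
  by_cases h2 : 2 ∣ Nat.card (G ⧸ N)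
  · -- even order: an involution image of a value
    obtain ⟨t, ht, ht2⟩ : ∃ t, valImage N k 2 t ∧ orderOf t = 2 := by
      obtain ⟨P0, n, hP0, hn, hcop, a, ha, hne⟩ := exists_value_data (p := 2) hk hSns h2
      set Q := P0.map π with hQ
      have hQp : IsPGroup 2 Q := hP0.map π
      by_cases hcase : ∃ (v : G ⧸ N) (P : Subgroup (G ⧸ N)), IsPGroup 2 P ∧ v ∈ P ∧
          valImage N k 2 v ∧ ∃ r ∈ P, ⁅v, r⁆ ≠ 1
      · obtain ⟨v, P, hP, hvP, hv, r, hr, hvr⟩ := hcase
        have hnilP := hpre P hP.isNilpotent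
        obtain ⟨R, hR, hRle, hall, -⟩ := exists_pGroup_of_nilpotent hnilP 2
        have hlift : ∀ r ∈ P, ∃ r0 ∈ R, π r0 = r := by
          intro r hr
          obtain ⟨r0, rfl⟩ := hπ r
          obtain ⟨r1, h1, h2', h3⟩ := exists_pEl_lift (p := 2) π (g := r0) (isPEl_of_mem hP hr)
          exact ⟨r1, hall r1 ((Subgroup.zpowers_le.2 (show r0 ∈ P.comap π from hr)) h1) h2', h3⟩
        have hcomm : ∀ v r : G ⧸ N, v ∈ P → r ∈ P → valImage N k 2 v → ⁅v, r⁆ ≠ 1 →
            valImage N k 2 ⁅v, r⁆ := by
          intro v r hv' hr hv hne'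
          obtain ⟨-, x, hxv, hxp, rfl⟩ := hv
          obtain ⟨r0, hr0, rfl⟩ := hlift r hr
          refine ⟨hne', ⁅x, r0⁆, hxv.comm r0, isPEl_of_mem hR ?_, map_commutatorElement π x r0⟩
          have hx : x ∈ R := hall x hv' hxp
          rw [commutatorElement_def]
          exact mul_mem (mul_mem (mul_mem hx hr0) (inv_mem hx)) (inv_mem hr0)
        haveI : Group.IsNilpotent ↥P := hP.isNilpotent
        obtain ⟨c, hc⟩ := Subgroup.nilpotent_iff_lowerCentralSeries.1 (inferInstance : Group.IsNilpotent ↥P)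
        -- a commutator of a value which is central
        obtain ⟨v', r', hv', hr', hvi, hvr', hcen⟩ : ∃ v' r' : G ⧸ N, v' ∈ P ∧ r' ∈ P ∧
            valImage N k 2 v' ∧ ⁅v', r'⁆ ≠ 1 ∧ ∀ s ∈ P, Commute ⁅v', r'⁆ s := by
          by_contra hnone
          push Not at hnone
          have key : ∀ i, ∃ (v' : P) (r' : P), valImage N k 2 v' ∧ ⁅(v' : G ⧸ N), (r' : G ⧸ N)⁆ ≠ 1 ∧
              v' ∈ (⊤ : Subgroup ↥P).lowerCentralSeries i := by
            intro i
            induction i with
            | zero =>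
              exact ⟨⟨v, hvP⟩, ⟨r, hr⟩, hv, hvr, by
                rw [Subgroup.lowerCentralSeries_zero]; exact Subgroup.mem_top _⟩
            | succ i ih =>
              obtain ⟨v', r', h1, h2', h3⟩ := ih
              obtain ⟨s, hs, hns'⟩ := hnone v' r' v'.2 r'.2 h1 h2'
              refine ⟨⁅v', r'⁆, ⟨s, hs⟩, hcomm _ _ v'.2 r'.2 h1 h2', ?_, by
                rw [Subgroup.lowerCentralSeries_succ]
                exact Subgroup.commutator_mem_commutator h3 (Subgroup.mem_top _)⟩
              intro h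
              exact hns' (commutatorElement_eq_one_iff_commute.1 h)
          obtain ⟨v', r', h1, -, h3⟩ := key c
          rw [hc, Subgroup.mem_bot] at h3
          exact h1.1 (by rw [h3]; rfl)
        set w := ⁅v', r'⁆ with hw
        have hwP : w ∈ P := by
          rw [hw, commutatorElement_def]
          exact mul_mem (mul_mem (mul_mem hv' hr') (inv_mem hv')) (inv_mem hr')
        have hpow : ∀ m : ℕ, ⁅v', r' ^ m⁆ = w ^ m := by
          intro m
          induction m with
          | zero => simp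
          | succ m ih =>
            have hc1 := ((hcen _ (pow_mem hr' m)).inv_right).eq
            calc ⁅v', r' ^ (m + 1)⁆ = v' * r' ^ m * v'⁻¹ * (w * (r' ^ m)⁻¹) := by
                  rw [hw, pow_succ r', commutatorElement_def, commutatorElement_def]; group
              _ = v' * r' ^ m * v'⁻¹ * ((r' ^ m)⁻¹ * w) := by rw [hc1]
              _ = ⁅v', r' ^ m⁆ * w := by rw [commutatorElement_def]; group
              _ = w ^ (m + 1) := by rw [ih, pow_succ]
        obtain ⟨i, hi⟩ := isPEl_of_mem hP hwP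
        have hi0 : i ≠ 0 := fun h => hvr' (orderOf_eq_one_iff.1 (by rw [hi, h, pow_zero]))
        have ho : orderOf (w ^ 2 ^ (i - 1)) = 2 := by
          rw [orderOf_pow_of_dvd (pow_ne_zero _ two_ne_zero) (hi ▸ pow_dvd_pow 2 (Nat.sub_le i 1)), hi,
            Nat.pow_div (Nat.sub_le i 1) two_pos, show i - (i - 1) = 1 by omega, pow_one]
        refine ⟨_, ?_, ho⟩
        rw [← hpow]
        refine hcomm _ _ hv' (pow_mem hr' _) hvi ?_
        rw [hpow]
        intro h
        rw [h, orderOf_one] at ho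
        exact absurd ho (by norm_num)
      · push Not at hcase
        have hnQ : π n ∈ Subgroup.normalizer (Q : Set (G ⧸ N)) :=
          Subgroup.le_normalizer_map π ⟨n, hn, rfl⟩
        set U : Set (G ⧸ N) := {u | ∃ b ∈ Q, u = it (π n) k b} with hU
        set A := Subgroup.closure U with hA
        have hAQ : A ≤ Q := (Subgroup.closure_le _).2 fun u ⟨b, hb, hu⟩ => hu ▸ it_mem hnQ hb k
        have hUcen : ∀ u ∈ U, ∀ w ∈ Q, Commute u w := by
          rintro _ ⟨b, hb, rfl⟩ w hw
          obtain ⟨b0, hb0, rfl⟩ := hb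
          rw [← map_it]
          by_cases h1 : π (it n k b0) = 1
          · rw [h1]; exact Commute.one_left w
          exact commutatorElement_eq_one_iff_commute.1
            (hcase _ Q hQp ⟨_, it_mem hn hb0 k, rfl⟩
              ⟨h1, _, isVal_it n k b0, isPEl_of_mem hP0 (it_mem hn hb0 k), rfl⟩ w hw)
        have hAcomm : ∀ a ∈ A, ∀ w ∈ Q, Commute a w := by
          intro a ha w hw
          have hle : A ≤ Subgroup.centralizer {w} := (Subgroup.closure_le _).2 fun u hu =>
            Subgroup.mem_centralizer_singleton_iff.2 (hUcen u hu w hw).eq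
          exact Subgroup.mem_centralizer_singleton_iff.1 (hle ha)
        have hAn : π n ∈ Subgroup.normalizer (A : Set (G ⧸ N)) := by
          have hsub : A.map (MulAut.conj (π n)).toMonoidHom ≤ A := by
            rw [hA, MonoidHom.map_closure]
            refine Subgroup.closure_mono ?_
            rintro _ ⟨_, ⟨b, hb, rfl⟩, rfl⟩
            refine ⟨π n * b * (π n)⁻¹, (hnQ b).1 hb, ?_⟩
            have h1 := map_it (MulAut.conj (π n)).toMonoidHom (π n) k b
            simpa using h1
          have heq : A.map (MulAut.conj (π n)).toMonoidHom = A :=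
            Subgroup.eq_of_le_of_card_ge hsub (by
              rw [Subgroup.card_map_of_injective (MulAut.conj (π n)).injective])
          intro w
          refine ⟨fun hw => hsub ⟨w, hw, rfl⟩, fun hw => ?_⟩
          rw [SetLike.mem_coe, ← heq] at hw
          obtain ⟨w', hw', hww⟩ := hw
          exact (MulAut.conj (π n)).injective hww ▸ hw'
        -- the endomorphism `a ↦ [a, n]` of the abelian group `A`
        let d : A →* A :=
          { toFun := fun a => ⟨⁅(a : G ⧸ N), π n⁆, comm_mem hAn a.2⟩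
            map_one' := Subtype.ext (by simp)
            map_mul' := fun a b => Subtype.ext (by
              show ⁅(a : G ⧸ N) * b, π n⁆ = ⁅(a : G ⧸ N), π n⁆ * ⁅(b : G ⧸ N), π n⁆
              have hc := (hAcomm _ a.2 _ (hAQ (comm_mem hAn b.2))).eq
              have hc2 := (hAcomm _ (comm_mem hAn a.2) _ (hAQ (comm_mem hAn b.2))).eq
              calc ⁅(a : G ⧸ N) * b, π n⁆ = a * ⁅(b : G ⧸ N), π n⁆ * (a : G ⧸ N)⁻¹ * ⁅(a : G ⧸ N), π n⁆ := by
                    simp only [commutatorElement_def]; group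
                _ = ⁅(b : G ⧸ N), π n⁆ * ⁅(a : G ⧸ N), π n⁆ := by rw [hc, mul_inv_cancel_right]
                _ = _ := hc2.symm) }
        have hcopA : (orderOf (π n)).Coprime (Nat.card A) :=
          hcop.coprime_dvd_right (Subgroup.card_dvd_of_le hAQ)
        have hinj : ∀ x ∈ d.range, d x = 1 → x = 1 := by
          rintro _ ⟨y, rfl⟩ h
          exact Subtype.ext (comm_eq_one_of_comm_comm hAn hcopA y.2 (congrArg Subtype.val h))
        have hdne : d.range ≠ ⊥ := by
          intro hb
          refine hne (comm_eq_one_of_it hnQ hcop (k + 1) ⟨a, ha, rfl⟩ ?_)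
          rw [it_succ']
          have huA : it (π n) k (π a) ∈ A := Subgroup.subset_closure ⟨π a, ⟨a, ha, rfl⟩, rfl⟩
          have hm : d ⟨_, huA⟩ ∈ d.range := ⟨_, rfl⟩
          rw [hb, Subgroup.mem_bot] at hm
          exact congrArg Subtype.val hm
        obtain ⟨z, hz, hz2⟩ : ∃ z ∈ d.range, orderOf z = 2 := by
          haveI : Nontrivial d.range := (Subgroup.nontrivial_iff_ne_bot _).2 hdne
          have hp2 : IsPGroup 2 d.range := (hQp.to_le hAQ).to_subgroup _
          obtain ⟨j, hj⟩ := hp2.exists_card_eq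
          have h2d : 2 ∣ Nat.card d.range := by
            rw [hj]
            exact dvd_pow_self 2 fun h0 => by
              have := Finite.one_lt_card (α := d.range)
              rw [hj, h0, pow_zero] at this
              exact lt_irrefl _ this
          obtain ⟨z, hz⟩ := exists_prime_orderOf_dvd_card' (G := d.range) 2 h2d
          exact ⟨z, z.2, by rw [← hz]; exact orderOf_injective d.range.subtype d.range.subtype_injective z⟩
        let d' : d.range →* d.range :=
          (d.comp d.range.subtype).codRestrict d.range (fun x => ⟨x, rfl⟩)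
        have hd' : Function.Surjective d' := Finite.surjective_of_injective (by
          rw [← MonoidHom.ker_eq_bot_iff, eq_bot_iff]
          intro x hx
          exact Subgroup.mem_bot.2 (Subtype.ext (hinj x x.2 (congrArg Subtype.val hx))))
        obtain ⟨y, hy⟩ := hd'.iterate k ⟨z, hz⟩
        have hit : ∀ (m : ℕ) (y : d.range), (((d'^[m] y : d.range) : A) : G ⧸ N) =
            it (π n) m ((y : A) : G ⧸ N) := by
          intro m
          induction m with
          | zero => intro y; rfl
          | succ m ih =>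
            intro y
            rw [Function.iterate_succ_apply', it_succ', ← ih]
            rfl
        have hyQ : ((y : A) : G ⧸ N) ∈ Q := hAQ (y : A).2
        obtain ⟨y0, hy0, hy0e⟩ := hyQ
        have hval : π (it n k y0) = ((z : A) : G ⧸ N) := by
          rw [map_it, hy0e, ← hit, hy]
        have hzo : orderOf ((z : A) : G ⧸ N) = 2 := by
          rw [← hz2]; exact orderOf_injective A.subtype A.subtype_injective z
        refine ⟨((z : A) : G ⧸ N), ⟨fun h1 => ?_, _, isVal_it n k y0,
          isPEl_of_mem hP0 (it_mem hn hy0 k), hval⟩, hzo⟩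
        rw [h1, orderOf_one] at hzo
        exact absurd hzo (by norm_num)
    have htp : IsPGroup 2 (Subgroup.zpowers t) :=
      IsPGroup.of_card (n := 1) (by rw [Nat.card_zpowers, ht2, pow_one])
    obtain ⟨g, hg⟩ : ∃ g : G ⧸ N, ¬ IsPGroup 2
        ↥(Subgroup.zpowers t ⊔ (Subgroup.zpowers t).map (MulAut.conj g).toMonoidHom) := by
      by_contra h
      push Not at h
      obtain ⟨M, hMn, hMp, hM⟩ := Involutions.baer_suzuki (Subgroup.zpowers t) htp h
      rcases hS.eq_bot_or_eq_top_of_normal M hMn with hb | htp'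
      · exact ht.1 (Subgroup.mem_bot.1 (hb ▸ hM (Subgroup.mem_zpowers t)))
      · subst htp'
        exact not_pGroup_quot (p := 2) hk hSns (hMp.of_equiv Subgroup.topEquiv)
    have htt : t⁻¹ = t := by
      rw [inv_eq_iff_mul_eq_one, ← pow_two, ← ht2]; exact pow_orderOf_eq_one t
    set t' := g * t * g⁻¹ with ht'
    have htt' : t'⁻¹ = t' := by rw [ht', mul_inv_rev, mul_inv_rev, inv_inv, htt]; group
    set w := t * t' with hw
    have hinv : ∀ z ∈ Subgroup.zpowers w, t * z * t⁻¹ = z⁻¹ := by
      rintro _ ⟨m, rfl⟩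
      show t * w ^ m * t⁻¹ = (w ^ m)⁻¹
      rw [← conj_zpow, ← inv_zpow]
      congr 1
      rw [hw, mul_inv_rev, htt']
      calc t * (t * t') * t⁻¹ = (t * t) * t' * t⁻¹ := by group
        _ = t' * t⁻¹ := by rw [show t * t = 1 by nth_rewrite 1 [← htt]; exact inv_mul_cancel t, one_mul]
    obtain ⟨r, hr, h, hh, hhr, hh1, hr2⟩ : ∃ r : ℕ, r.Prime ∧ ∃ h ∈ Subgroup.zpowers w,
        IsPEl r h ∧ h ≠ 1 ∧ r ≠ 2 := by
      by_contra hno
      push Not at hno
      apply hg
      have hw2 : IsPGroup 2 (Subgroup.zpowers w) := by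
        rw [IsPGroup.iff_card]
        refine ⟨_, Nat.eq_prime_pow_of_unique_prime_dvd Nat.card_pos.ne' fun {d} hd hdd => ?_⟩
        haveI : Fact d.Prime := ⟨hd⟩
        obtain ⟨h, hh⟩ := exists_prime_orderOf_dvd_card' (G := Subgroup.zpowers w) d hdd
        refine hno d hd h h.2 ⟨1, by
          rw [pow_one, ← hh]; exact orderOf_injective (Subgroup.zpowers w).subtype (Subtype.val_injective) h⟩ ?_
        intro h1
        rw [show h = 1 from Subtype.ext h1, orderOf_one] at hh
        exact hd.ne_one hh.symm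
      have hnorm : Subgroup.zpowers t ≤ Subgroup.normalizer ((Subgroup.zpowers w : Subgroup _) : Set (G ⧸ N)) := by
        rw [Subgroup.zpowers_le]
        intro z
        refine ⟨fun hz => ?_, fun hz => ?_⟩
        · rw [SetLike.mem_coe, hinv z hz]; exact inv_mem hz
        · have h2' := hinv _ hz
          have he : t * (t * z * t⁻¹) * t⁻¹ = z := by
            calc t * (t * z * t⁻¹) * t⁻¹ = (t * t) * z * (t * t)⁻¹ := by group
              _ = z := by rw [show t * t = 1 by nth_rewrite 1 [← htt]; exact inv_mul_cancel t]; group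
          rw [he] at h2'
          rw [h2']; exact inv_mem hz
      refine (IsPGroup.to_sup_of_normal_left' hw2 htp hnorm).to_le (sup_le le_sup_right ?_)
      rintro _ ⟨z, hz, rfl⟩
      obtain ⟨m, rfl⟩ := hz
      have : t' ∈ Subgroup.zpowers w ⊔ Subgroup.zpowers t := by
        have h3 := mul_mem (Subgroup.mem_sup_right (inv_mem (Subgroup.mem_zpowers t)) :
          t⁻¹ ∈ Subgroup.zpowers w ⊔ Subgroup.zpowers t) (Subgroup.mem_sup_left (Subgroup.mem_zpowers w))
        rwa [hw, inv_mul_cancel_left] at h3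
      show (MulAut.conj g) (t ^ m) ∈ _
      rw [map_zpow]
      exact zpow_mem this m
    haveI : Fact r.Prime := ⟨hr⟩
    have hn : t ∈ Subgroup.normalizer ((Subgroup.zpowers h : Subgroup _) : Set (G ⧸ N)) := by
      intro z
      refine ⟨fun hz => ?_, fun hz => ?_⟩
      · rw [SetLike.mem_coe, hinv z ((Subgroup.zpowers_le.2 hh) hz)]; exact inv_mem hz
      · have h2' := hinv _ ((Subgroup.zpowers_le.2 hh) hz)
        have he : t * (t * z * t⁻¹) * t⁻¹ = z := by
          calc t * (t * z * t⁻¹) * t⁻¹ = (t * t) * z * (t * t)⁻¹ := by group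
            _ = z := by rw [show t * t = 1 by nth_rewrite 1 [← htt]; exact inv_mul_cancel t]; group
        rw [he] at h2'
        rw [h2']; exact inv_mem hz
    have hc := hcent 2 r Nat.prime_two hr (Ne.symm hr2) t ht _ hhr.isPGroup hn h (Subgroup.mem_zpowers h)
    have h3 := hinv h hh
    rw [← hc.eq, mul_inv_cancel_right] at h3
    obtain ⟨i, hi⟩ := hhr
    have hdd : orderOf h ∣ 2 := by
      rw [orderOf_dvd_iff_pow_eq_one, pow_two]; nth_rewrite 1 [h3]; exact inv_mul_cancel h
    rcases Nat.eq_zero_or_pos i with h0 | h0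
    · exact hh1 (orderOf_eq_one_iff.1 (by rw [hi, h0, pow_zero]))
    · exact hr2 ((Nat.prime_dvd_prime_iff_eq hr Nat.prime_two).1
        ((dvd_pow_self r h0.ne').trans (hi ▸ hdd)))
  · -- odd order: a group with nilpotent centralisers
    have hproper : ∀ K : Subgroup (G ⧸ N), K ≠ ⊤ → Group.IsSolvable ↥(K.comap π) := fun K hK =>
      hsub _ fun h => hK (by
        rw [← Subgroup.map_comap_eq_self_of_surjective hπ K, h, Subgroup.map_top_of_surjective π hπ])
    have hsolS : ∀ K : Subgroup (G ⧸ N), K ≠ ⊤ → Group.IsSolvable K := fun K hK => by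
      haveI := hproper K hK
      exact Group.isSolvable_of_surjective
        (MonoidHom.subgroupComap_surjective_of_surjective π K hπ)
    have hC : Config (G ⧸ N) (valImage N k) := by
      refine
        { simple := hS, not_solvable := hSns, pel := ?_, ne_one := fun p t h => h.1,
          conj := ?_, exists_val := ?_, comm := ?_, core := ?_, fit := ?_ }
      · rintro p hp' t ⟨ht1, x, hv, hx, rfl⟩
        obtain ⟨i, hi⟩ := hx
        have hd := orderOf_map_dvd π x
        rw [hi] at hd
        obtain ⟨j, -, hj⟩ := (Nat.dvd_prime_pow hp').1 hd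
        exact ⟨j, hj⟩
      · rintro p t g ⟨ht, x, hv, hx, rfl⟩
        obtain ⟨g0, rfl⟩ := hπ g
        exact ⟨by simpa using ht, g0 * x * g0⁻¹, hv.conj g0, hx.conj g0, by simp [π]⟩
      · intro p hp hd
        haveI : Fact p.Prime := ⟨hp⟩
        exact exists_valImage hk hSns hd
      · intro p hp P hP t r ht hr hv hne
        haveI : Fact p.Prime := ⟨hp⟩
        obtain ⟨-, x, hxv, hxp, rfl⟩ := hv
        obtain ⟨R, hR, hRle, hall, -⟩ := exists_pGroup_of_nilpotent (hpre P hP.isNilpotent) p
        obtain ⟨r0, rfl⟩ := hπ r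
        obtain ⟨r1, h1, h2', h3⟩ := exists_pEl_lift (p := p) π (g := r0) (isPEl_of_mem hP hr)
        refine ⟨hne, ⁅x, r1⁆, hxv.comm r1, isPEl_of_mem hR ?_, ?_⟩
        · have hx : x ∈ R := hall x ht hxp
          have hr1 : r1 ∈ R := hall r1 ((Subgroup.zpowers_le.2 (show r0 ∈ P.comap π from hr)) h1) h2'
          rw [commutatorElement_def]
          exact mul_mem (mul_mem (mul_mem hx hr1) (inv_mem hx)) (inv_mem hr1)
        · show π ⁅x, r1⁆ = _
          rw [map_commutatorElement, h3]
      · intro p hp K hK t ht hv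
        haveI : Fact p.Prime := ⟨hp⟩
        obtain ⟨-, x, hxv, hxp, rfl⟩ := hv
        have ht' : x ∈ K.comap π := ht
        have hxp' : IsPEl p (⟨x, ht'⟩ : K.comap π) := by
          obtain ⟨i, hi⟩ := hxp
          exact ⟨i, by rw [Subgroup.orderOf_mk, hi]⟩
        have hm := hk.mem_pCore (hproper K hK) (K.comap π).subtype Subtype.val_injective
          (p := p) (x := ⟨x, ht'⟩) hxv hxp'
        exact Cores.map_pCore_le (π.subgroupComap K)
          (MonoidHom.subgroupComap_surjective_of_surjective π K hπ) ⟨_, hm, rfl⟩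
      · intro K hK hFn
        set K0 := K.comap π
        have hle := (hk.of_injective K0.subtype Subtype.val_injective).lcs_le_fitting (hproper K hK)
        let ψ : K0 →* ↥K ⧸ Cfsg.fittingSubgroup K := (QuotientGroup.mk' _).comp (π.subgroupComap K)
        have hψ : Function.Surjective ψ := (QuotientGroup.mk'_surjective _).comp
          (MonoidHom.subgroupComap_surjective_of_surjective π K hπ)
        rw [Subgroup.nilpotent_iff_lowerCentralSeries]
        refine ⟨k, ?_⟩
        rw [← Subgroup.map_top_of_surjective ψ hψ, ← Subgroup.map_lowerCentralSeries, eq_bot_iff]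
        rintro _ ⟨w, hw, rfl⟩
        rw [Subgroup.mem_bot]
        refine (QuotientGroup.eq_one_iff _).2 ?_
        exact Cores.map_fittingSubgroup_le (π.subgroupComap K)
          (MonoidHom.subgroupComap_surjective_of_surjective π K hπ) ⟨w, hle hw, rfl⟩
    exact hSns (Lib.Characters.isSolvable_of_odd_cn
      (Nat.odd_iff.2 (Nat.two_dvd_ne_zero.1 h2)) (hC.isCN hsolS))

/-- The coprime order condition forces solubility. -/
theorem Cond.isSolvable : ∀ {G : Type u} [Group G] [Finite G] {k : ℕ}, Cond k G → Group.IsSolvable G := by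
  intro G _ _ k hk
  induction h : Nat.card G using Nat.strong_induction_on generalizing G with
  | _ c ih =>
    subst h
    by_contra hns
    refine false_of_minimal hk hns fun H hH => ?_
    exact ih (Nat.card H)
      (lt_of_le_of_ne (Subgroup.card_le_card_group H) fun he => hH (Subgroup.card_eq_iff_eq_top H |>.1 he))
      (hk.of_injective H.subtype Subtype.val_injective) rfl

end Cfsg.Agent.Lib.CoprimeValues
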