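import Cfsg.Agent.Lib.CoprimeValues.Values

/-!
The coprime order condition in soluble groups, and its converse.
-/

set_option autoImplicit false
set_option linter.style.haveILetI false
set_option linter.unusedVariables false

namespace Cfsg.Agent.Lib.CoprimeValues

open scoped commutatorElement

universe u

variable {G : Type u} [Group G]

theorem val_append (a g : G) (l : List G) : val a (l ++ [g]) = ⁅val a l, g⁆ := by
  simp [val, List.foldl_append, commutatorElement_def]

/-- If all values of length `k + 1` are trivial then so is the term of the lower central series. -/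
theorem lcs_eq_bot : ∀ (k : ℕ) (H : Type u) [Group H], (∀ x : H, IsVal k x → x = 1) →
    (⊤ : Subgroup H).lowerCentralSeries k = ⊥ := by
  intro k
  induction k with
  | zero =>
    intro H _ h
    rw [Subgroup.lowerCentralSeries_zero, eq_bot_iff]
    intro x _
    rw [Subgroup.mem_bot]
    exact h x ⟨x, [], rfl, rfl⟩
  | succ k ih =>
    intro H _ h
    let π := QuotientGroup.mk' (Subgroup.center H)
    have hπ : Function.Surjective π := QuotientGroup.mk'_surjective _
    have hb : (⊤ : Subgroup (H ⧸ Subgroup.center H)).lowerCentralSeries k = ⊥ := by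
      refine ih _ ?_
      rintro _ ⟨a, l, hl, rfl⟩
      obtain ⟨a0, rfl⟩ := hπ a
      obtain ⟨l0, rfl⟩ := (List.map_surjective_iff.2 hπ) l
      rw [← map_val]
      refine (QuotientGroup.eq_one_iff _).2 ?_
      rw [Subgroup.mem_center_iff]
      intro g
      have h1 := h (val a0 (l0 ++ [g]))
        ⟨a0, l0 ++ [g], by simpa using hl, rfl⟩
      rw [val_append, commutatorElement_eq_one_iff_commute] at h1
      exact h1.eq.symm
    have hle : (⊤ : Subgroup H).lowerCentralSeries k ≤ Subgroup.center H := by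
      intro x hx
      have h1 : π x ∈ ((⊤ : Subgroup H).lowerCentralSeries k).map π := ⟨x, hx, rfl⟩
      rw [Subgroup.map_lowerCentralSeries, Subgroup.map_top_of_surjective π hπ, hb,
        Subgroup.mem_bot] at h1
      exact (QuotientGroup.eq_one_iff x).1 h1
    rw [Subgroup.lowerCentralSeries_succ, eq_bot_iff]
    refine Subgroup.commutator_le.2 fun a ha b _ => ?_
    rw [Subgroup.mem_bot, commutatorElement_eq_one_iff_commute]
    exact (Subgroup.mem_center_iff.1 (hle ha) b).symm

/-- Values lie in the lower central series. -/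
theorem IsVal.mem_lcs {k : ℕ} {x : G} (h : IsVal k x) :
    x ∈ (⊤ : Subgroup G).lowerCentralSeries k := by
  induction k generalizing x with
  | zero => rw [Subgroup.lowerCentralSeries_zero]; exact Subgroup.mem_top x
  | succ k ih =>
    obtain ⟨a, l, hl, rfl⟩ := h
    have hne : l ≠ [] := by intro h0; simp [h0] at hl
    rw [← List.dropLast_append_getLast hne, val_append, Subgroup.lowerCentralSeries_succ]
    exact Subgroup.commutator_mem_commutator (ih ⟨a, l.dropLast, by simp [hl], rfl⟩) (Subgroup.mem_top _)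

/-- The converse direction: nilpotency of the term gives the order condition. -/
theorem cond_of_nilpotent [Finite G] (k : ℕ)
    (h : Group.IsNilpotent ↥((⊤ : Subgroup G).lowerCentralSeries k)) : Cond k G := by
  intro x y hx hy hco
  right
  set N := (⊤ : Subgroup G).lowerCentralSeries k
  have hc : Commute (⟨x, hx.mem_lcs⟩ : N) ⟨y, hy.mem_lcs⟩ :=
    commute_of_nilpotent_coprime h (by simpa [Subgroup.orderOf_mk] using hco)
  have hc' : Commute x y := hc.map N.subtype
  rw [hc'.orderOf_mul_eq_mul_orderOf_of_coprime hco]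

/-- In a soluble group with the condition the term lies in the Fitting subgroup. -/
theorem Cond.lcs_le_fitting [Finite G] {k : ℕ} (hG : Cond k G) (hs : Group.IsSolvable G) :
    (⊤ : Subgroup G).lowerCentralSeries k ≤ Cfsg.fittingSubgroup G := by
  classical
  set F := Cfsg.fittingSubgroup G with hF
  haveI hFn : F.Normal := by rw [hF, Cores.fittingSubgroup_eq_iSup]; infer_instance
  have hcore : ∀ p : ℕ, ∀ x : G, p.Prime → IsVal k x → IsPEl p x → x ∈ F := by
    intro p x hp hv hx
    haveI : Fact p.Prime := ⟨hp⟩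
    exact Cores.pCore_le_fittingSubgroup p
      (hG.mem_pCore hs (MonoidHom.id G) Function.injective_id (p := p) hv hx)
  let π : G →* G ⧸ F := QuotientGroup.mk' F
  have hπ : Function.Surjective π := QuotientGroup.mk'_surjective F
  have hker : ∀ z, π z = 1 ↔ z ∈ F := fun z => QuotientGroup.eq_one_iff z
  haveI := hs
  have hnil : Group.IsNilpotent (G ⧸ F) := by
    refine nilpotent_of_centralize_cores (Group.isSolvable_of_surjective hπ) ?_
    intro p q hp hq hpq x hx y hy
    haveI : Fact p.Prime := ⟨hp⟩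
    haveI : Fact q.Prime := ⟨hq⟩
    set L : Subgroup G := (Cfsg.pCore q (G ⧸ F)).comap π with hL
    haveI : L.Normal := by rw [hL]; infer_instance
    obtain ⟨Q0⟩ := (inferInstance : Nonempty (Sylow q L))
    set Q : Subgroup G := (Q0 : Subgroup L).map L.subtype with hQ
    have hQq : IsPGroup q Q := Q0.2.map _
    have hsurj : Function.Surjective (π.subgroupComap (Cfsg.pCore q (G ⧸ F))) :=
      MonoidHom.subgroupComap_surjective_of_surjective π _ hπ
    have hQimg : (Cfsg.pCore q (G ⧸ F)) ≤ Q.map π := by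
      intro w hw
      have htop : ((Q0.mapSurjective hsurj : Sylow q (Cfsg.pCore q (G ⧸ F))) :
          Subgroup (Cfsg.pCore q (G ⧸ F))) = ⊤ :=
        (Q0.mapSurjective hsurj).3 ((Cores.pCore_isPGroup q (G ⧸ F)).to_subgroup ⊤) le_top |>.symm
      rw [Sylow.coe_mapSurjective] at htop
      have hmem : (⟨w, hw⟩ : Cfsg.pCore q (G ⧸ F)) ∈
          (Q0 : Subgroup L).map (π.subgroupComap (Cfsg.pCore q (G ⧸ F))) := by
        rw [htop]; exact Subgroup.mem_top _
      obtain ⟨v, hv', hvw⟩ := hmem
      exact ⟨v, ⟨v, hv', rfl⟩, congrArg Subtype.val hvw⟩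
    have hLle : L ≤ Q ⊔ F := by
      intro l hl
      obtain ⟨b, hb, hbl⟩ := hQimg (show π l ∈ Cfsg.pCore q (G ⧸ F) from hl)
      have hlb : b⁻¹ * l ∈ F := by rw [← hker, map_mul, map_inv, hbl, inv_mul_cancel]
      have := mul_mem (Subgroup.mem_sup_left hb : b ∈ Q ⊔ F) (Subgroup.mem_sup_right hlb)
      rwa [mul_inv_cancel_left] at this
    have htop : Subgroup.normalizer (Q : Set G) ⊔ F = ⊤ := by
      rw [eq_top_iff, ← Sylow.normalizer_sup_eq_top Q0, ← hQ]
      exact sup_le le_sup_left (hLle.trans (sup_le_sup_right Subgroup.le_normalizer F))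
    obtain ⟨g0, rfl⟩ := hπ x
    obtain ⟨n0, hn0, a, ha, hna⟩ := Subgroup.mem_sup_of_normal_right.1
      (show g0 ∈ Subgroup.normalizer (Q : Set G) ⊔ F by rw [htop]; exact Subgroup.mem_top g0)
    have h0 : π n0 = π g0 := by rw [← hna, map_mul, (hker a).2 ha, mul_one]
    obtain ⟨n, hn1, hn2, hn3⟩ := exists_pEl_lift (p := p) π (g := n0) (by rw [h0]; exact hx)
    have hn : n ∈ Subgroup.normalizer (Q : Set G) :=
      (Subgroup.zpowers_le.2 hn0) hn1
    obtain ⟨b, hb, rfl⟩ := hQimg hy
    have hb1 : ⁅π b, π n⁆ = 1 := by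
      have hQ' : IsPGroup q (Q.map π) := hQq.map π
      have hn' : π n ∈ Subgroup.normalizer ((Q.map π : Subgroup (G ⧸ F)) : Set (G ⧸ F)) :=
        Subgroup.le_normalizer_map π ⟨n, hn, rfl⟩
      refine comm_eq_one_of_it hn' ((hn2.map π).coprime_card hpq hQ') k ⟨b, hb, rfl⟩ ?_
      rw [← map_it, hker]
      exact hcore q _ hq (isVal_it n k b) (isPEl_of_mem hQq (it_mem hn hb k))
    rw [← h0, ← hn3]
    exact (commutatorElement_eq_one_iff_commute.1 hb1).symm
  have hvals : ∀ x : G ⧸ F, IsVal k x → x = 1 := by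
    intro x hx
    obtain e := Sylow.directProductOfNormal (G := G ⧸ F)
      (fun {p} [Fact p.Prime] P => sylow_normal_of_nilpotent hnil P)
    refine e.symm.injective ?_
    rw [map_one]
    funext p P
    haveI : Fact (p : ℕ).Prime := ⟨Nat.prime_of_mem_primeFactors p.2⟩
    let φ : (G ⧸ F) →* P :=
      (((Pi.evalMonoidHom (fun P : Sylow p (G ⧸ F) => ↥P) P).comp
        (Pi.evalMonoidHom (fun p : (Nat.card (G ⧸ F)).primeFactors =>
          ∀ P : Sylow p (G ⧸ F), ↥P) p))).comp e.symm.toMonoidHom
    show φ x = 1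
    obtain ⟨P0, hP0⟩ := Sylow.mapSurjective_surjective hπ (p : ℕ) P
    have hP0' : (P0 : Subgroup G).map π = (P : Subgroup (G ⧸ F)) := by
      rw [← hP0]; rfl
    let ψ : ↥(P0 : Subgroup G) →* ↥(P : Subgroup (G ⧸ F)) :=
      (π.comp (P0 : Subgroup G).subtype).codRestrict _ fun z => hP0' ▸ ⟨z, z.2, rfl⟩
    have hψ : Function.Surjective ψ := by
      intro w
      obtain ⟨z, hz, hzw⟩ := (hP0'.symm ▸ w.2 : (w : G ⧸ F) ∈ (P0 : Subgroup G).map π)
      exact ⟨⟨z, hz⟩, Subtype.ext hzw⟩
    obtain ⟨a, l, hl, hal⟩ := hx.map φ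
    obtain ⟨a0, rfl⟩ := hψ a
    obtain ⟨l0, rfl⟩ := (List.map_surjective_iff.2 hψ) l
    rw [hal, ← map_val]
    apply Subtype.ext
    show π ((val a0 l0 : ↥(P0 : Subgroup G)) : G) = 1
    rw [hker]
    exact hcore p _ Fact.out (IsVal.map (x := val a0 l0) ⟨a0, l0, by simpa using hl, rfl⟩ (P0 : Subgroup G).subtype)
      (isPEl_of_mem P0.2 (val a0 l0).2)
  intro x hx
  have h1 : π x ∈ ((⊤ : Subgroup G).lowerCentralSeries k).map π := ⟨x, hx, rfl⟩
  rw [Subgroup.map_lowerCentralSeries, Subgroup.map_top_of_surjective π hπ,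
    lcs_eq_bot k _ hvals, Subgroup.mem_bot] at h1
  exact (hker x).1 h1

end Cfsg.Agent.Lib.CoprimeValues
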