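import Cfsg.Agent.Lib.CoprimeValues.Main

/-!
Nilpotency of a lower central term from the coprime order condition.
-/

set_option autoImplicit false

namespace Cfsg.Agent.Lib.CoprimeValues

theorem nilpotent_iff_cond {G : Type*} [Group G] [Finite G] (k : ℕ) :
    Group.IsNilpotent ↥((⊤ : Subgroup G).lowerCentralSeries k) ↔ Cond k G := by
  refine ⟨cond_of_nilpotent k, fun h => ?_⟩
  haveI := Cores.fittingSubgroup_isNilpotent G
  exact Cores.isNilpotent_of_injective (Subgroup.inclusion (h.lcs_le_fitting h.isSolvable))
    (Subgroup.inclusion_injective _)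

end Cfsg.Agent.Lib.CoprimeValues
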