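import Cfsg.Agent.Lib.Cores
import Mathlib

/-!
Small tools: elements of prime-power order, their lifts, nilpotent groups.
-/

set_option autoImplicit false
set_option linter.style.haveILetI false
set_option linter.unusedVariables false

namespace Cfsg.Agent.Lib.CoprimeValues

variable {G : Type*} [Group G] {H : Type*} [Group H]

/-- `x` has `p`-power order. -/
def IsPEl (p : ℕ) (x : G) : Prop := ∃ i : ℕ, orderOf x = p ^ i

theorem IsPEl.map {p : ℕ} [hp : Fact p.Prime] {x : G} (h : IsPEl p x) (f : G →* H) :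
    IsPEl p (f x) := by
  obtain ⟨i, hi⟩ := h
  obtain ⟨j, -, hj⟩ := (Nat.dvd_prime_pow hp.out).1 (hi ▸ orderOf_map_dvd f x)
  exact ⟨j, hj⟩

theorem IsPEl.conj {p : ℕ} {x : G} (h : IsPEl p x) (g : G) : IsPEl p (g * x * g⁻¹) := by
  obtain ⟨i, hi⟩ := h
  refine ⟨i, ?_⟩
  rw [← MulAut.conj_apply, MulEquiv.orderOf_eq, hi]

theorem isPEl_of_mem {p : ℕ} [hp : Fact p.Prime] {P : Subgroup G} (hP : IsPGroup p P) {x : G}
    (hx : x ∈ P) : IsPEl p x := by
  obtain ⟨i, hi⟩ := hP ⟨x, hx⟩
  obtain ⟨j, -, hj⟩ := (Nat.dvd_prime_pow hp.out).1 (orderOf_dvd_of_pow_eq_one hi)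
  exact ⟨j, by rw [← hj, Subgroup.orderOf_mk]⟩

theorem IsPEl.isPGroup {p : ℕ} [hp : Fact p.Prime] {x : G} (h : IsPEl p x) :
    IsPGroup p (Subgroup.zpowers x) := by
  obtain ⟨i, hi⟩ := h
  exact IsPGroup.of_card (n := i) (by rw [Nat.card_zpowers, hi])

theorem IsPEl.coprime_card {p q : ℕ} [hp : Fact p.Prime] [hq : Fact q.Prime] (hpq : p ≠ q) {x : G}
    (h : IsPEl p x) {Q : Subgroup H} [Finite Q] (hQ : IsPGroup q Q) :
    (orderOf x).Coprime (Nat.card Q) := by
  obtain ⟨i, hi⟩ := h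
  obtain ⟨j, hj⟩ := hQ.exists_card_eq
  rw [hi, hj]
  exact Nat.Coprime.pow i j ((Nat.coprime_primes hp.out hq.out).2 hpq)

theorem IsPEl.eq_one {p q : ℕ} [hp : Fact p.Prime] [hq : Fact q.Prime] (hpq : p ≠ q) {x : G}
    (h : IsPEl p x) (h' : IsPEl q x) : x = 1 := by
  obtain ⟨i, hi⟩ := h
  obtain ⟨j, hj⟩ := h'
  rw [← orderOf_eq_one_iff]
  have hc : (orderOf x).Coprime (orderOf x) := by
    nth_rewrite 1 [hi]
    rw [hj]
    exact Nat.Coprime.pow i j ((Nat.coprime_primes hp.out hq.out).2 hpq)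
  exact (Nat.coprime_self _).1 hc

/-- A subgroup containing all prime-power parts of `g` contains `g`. -/
theorem mem_of_parts [Finite G] (C : Subgroup G) {g : G}
    (h : ∀ r : ℕ, r.Prime → ∀ x ∈ Subgroup.zpowers g, IsPEl r x → x ∈ C) : g ∈ C := by
  suffices hle : Subgroup.zpowers g ≤ C from hle (Subgroup.mem_zpowers g)
  have hdvd : Nat.card (Subgroup.zpowers g) ∣ Nat.card ↥(Subgroup.zpowers g ⊓ C) := by
    rw [Nat.dvd_iff_prime_pow_dvd_dvd]
    intro r k hr hrk
    haveI : Fact r.Prime := ⟨hr⟩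
    obtain ⟨K, hK⟩ := Sylow.exists_subgroup_card_pow_prime r hrk
    have hKp : IsPGroup r K := IsPGroup.of_card hK
    have hmap : K.map (Subgroup.zpowers g).subtype ≤ Subgroup.zpowers g ⊓ C := by
      rintro x ⟨y, hy, rfl⟩
      exact ⟨y.2, h r hr y y.2 ((isPEl_of_mem hKp hy).map (Subgroup.zpowers g).subtype)⟩
    have := Subgroup.card_dvd_of_le hmap
    rwa [Subgroup.card_subtype, hK] at this
  have := Subgroup.eq_of_le_of_card_ge (inf_le_left : Subgroup.zpowers g ⊓ C ≤ _)
    (Nat.le_of_dvd Nat.card_pos hdvd)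
  exact this ▸ inf_le_right

/-- An element with image of `p`-power order can be replaced by a `p`-element in its cyclic group. -/
theorem exists_pEl_lift [Finite G] {p : ℕ} [hp : Fact p.Prime] (f : G →* H) {g : G}
    (hg : IsPEl p (f g)) : ∃ n ∈ Subgroup.zpowers g, IsPEl p n ∧ f n = f g := by
  obtain ⟨i, hi⟩ := hg
  obtain ⟨a, m, hm, ham⟩ :=
    Nat.exists_eq_pow_mul_and_not_dvd (orderOf_pos g).ne' p hp.out.ne_one
  have hco : (p ^ (a + i)).Coprime m := Nat.Coprime.pow_left _ ((hp.out.coprime_iff_not_dvd).2 hm)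
  obtain ⟨e, he1, he2⟩ := Nat.chineseRemainder hco 1 0
  refine ⟨g ^ e, Subgroup.pow_mem _ (Subgroup.mem_zpowers g) _, ?_, ?_⟩
  · have h1 : (g ^ e) ^ p ^ a = 1 := by
      rw [← pow_mul, ← orderOf_dvd_iff_pow_eq_one, ham, mul_comm e]
      exact mul_dvd_mul_left _ (Nat.modEq_zero_iff_dvd.1 he2)
    obtain ⟨j, -, hj⟩ := (Nat.dvd_prime_pow hp.out).1 (orderOf_dvd_of_pow_eq_one h1)
    exact ⟨j, hj⟩
  · rw [map_pow]
    conv_rhs => rw [← pow_one (f g)]
    rw [pow_eq_pow_iff_modEq, hi]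
    exact he1.of_dvd (pow_dvd_pow p (Nat.le_add_left i a))

theorem sylow_normal_of_nilpotent [Finite G] (hG : Group.IsNilpotent G) {p : ℕ} [hp : Fact p.Prime]
    (P : Sylow p G) : (P : Subgroup G).Normal := by
  have h := ((Group.isNilpotent_of_finite_tfae (G := G)).out 0 3).1 hG
  exact h p hp P

/-- In a finite nilpotent subgroup, two `p`-elements lie in a common `p`-subgroup. -/
theorem exists_pGroup_of_nilpotent [Finite G] {N : Subgroup G} (hN : Group.IsNilpotent N) (p : ℕ)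
    [Fact p.Prime] : ∃ P : Subgroup G, IsPGroup p P ∧ P ≤ N ∧
      (∀ x ∈ N, IsPEl p x → x ∈ P) ∧ (∀ n : G, n ∈ Subgroup.normalizer (N : Set G) →
        n ∈ Subgroup.normalizer (P : Set G)) := by
  obtain ⟨P⟩ := (inferInstance : Nonempty (Sylow p N))
  haveI := sylow_normal_of_nilpotent hN P
  have hall : ∀ x ∈ N, IsPEl p x → x ∈ (P : Subgroup N).map N.subtype := by
    intro x hx hpx
    have hy : IsPEl p (⟨x, hx⟩ : N) := by
      obtain ⟨i, hi⟩ := hpx
      exact ⟨i, by rw [Subgroup.orderOf_mk, hi]⟩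
    obtain ⟨Q, hQ⟩ := hy.isPGroup.exists_le_sylow
    haveI := Sylow.unique_of_normal P inferInstance
    rw [Subsingleton.elim Q P] at hQ
    exact ⟨⟨x, hx⟩, hQ (Subgroup.mem_zpowers _), rfl⟩
  refine ⟨(P : Subgroup N).map N.subtype, P.2.map _, Subgroup.map_subtype_le _, hall, ?_⟩
  intro n hn
  have hle : (P : Subgroup N).map N.subtype ≤ N := Subgroup.map_subtype_le _
  have key : ∀ m : G, m ∈ Subgroup.normalizer (N : Set G) →
      ∀ x ∈ (P : Subgroup N).map N.subtype, m * x * m⁻¹ ∈ (P : Subgroup N).map N.subtype :=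
    fun m hm x hx => hall _ ((hm x).1 (hle hx)) ((isPEl_of_mem (P.2.map _) hx).conj m)
  intro x
  refine ⟨fun hx => key n hn x hx, fun hx => ?_⟩
  have := key n⁻¹ (inv_mem hn) _ hx
  have he : n⁻¹ * (n * x * n⁻¹) * n⁻¹⁻¹ = x := by group
  rwa [he] at this

/-- Elements of coprime order of a finite nilpotent group commute. -/
theorem commute_of_nilpotent [Finite G] (hG : Group.IsNilpotent G) {p q : ℕ} [Fact p.Prime]
    [Fact q.Prime] (hpq : p ≠ q) {x y : G} (hx : IsPEl p x) (hy : IsPEl q y) : Commute x y := by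
  obtain ⟨P, hP⟩ := hx.isPGroup.exists_le_sylow
  obtain ⟨Q, hQ⟩ := hy.isPGroup.exists_le_sylow
  exact Subgroup.commute_of_normal_of_disjoint _ _ (sylow_normal_of_nilpotent hG P)
    (sylow_normal_of_nilpotent hG Q) (IsPGroup.disjoint_of_ne p q hpq _ _ P.2 Q.2) x y
    (hP (Subgroup.mem_zpowers x)) (hQ (Subgroup.mem_zpowers y))

theorem commute_of_nilpotent_coprime [Finite G] (hG : Group.IsNilpotent G) {x y : G}
    (hxy : (orderOf x).Coprime (orderOf y)) : Commute x y := by
  have h1 : ∀ s : ℕ, s.Prime → ∀ z ∈ Subgroup.zpowers y, IsPEl s z →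
      z ∈ Subgroup.centralizer {x} := by
    intro s hs z hz hzs
    haveI : Fact s.Prime := ⟨hs⟩
    have hxz : x ∈ Subgroup.centralizer {z} := by
      refine mem_of_parts _ fun r hr w hw hwr => ?_
      haveI : Fact r.Prime := ⟨hr⟩
      rw [Subgroup.mem_centralizer_singleton_iff]
      by_cases hrs : r = s
      · subst hrs
        obtain ⟨i, hi⟩ := hwr
        obtain ⟨j, hj⟩ := hzs
        rcases Nat.eq_zero_or_pos i with h0 | h0
        · rw [(orderOf_eq_one_iff (x := w)).1 (by rw [hi, h0, pow_zero])]; simp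
        rcases Nat.eq_zero_or_pos j with h0' | h0'
        · rw [(orderOf_eq_one_iff (x := z)).1 (by rw [hj, h0', pow_zero])]; simp
        exfalso
        have h2 : r ∣ orderOf x := (dvd_pow_self r h0.ne').trans (hi ▸ orderOf_dvd_of_mem_zpowers hw)
        have h3 : r ∣ orderOf y := (dvd_pow_self r h0'.ne').trans (hj ▸ orderOf_dvd_of_mem_zpowers hz)
        exact hs.not_dvd_one (hxy ▸ Nat.dvd_gcd h2 h3)
      · exact (commute_of_nilpotent hG hrs hwr hzs).eq
    rw [Subgroup.mem_centralizer_singleton_iff] at hxz ⊢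
    exact hxz.symm
  exact (Subgroup.mem_centralizer_singleton_iff.1 (mem_of_parts _ h1)).symm

/-- A `p`-element of a normal nilpotent subgroup lies in the `p`-core. -/
theorem mem_pCore_of_nilpotent_normal [Finite G] {p : ℕ} [Fact p.Prime] {N : Subgroup G}
    (hN : N.Normal) (hnil : Group.IsNilpotent N) {x : G} (hx : x ∈ N) (hp : IsPEl p x) :
    x ∈ Cfsg.pCore p G := by
  obtain ⟨P, hP, hPN, hall, hnorm⟩ := exists_pGroup_of_nilpotent hnil p
  have hPn : P.Normal := Subgroup.normalizer_eq_top_iff.1 <| eq_top_iff.2 fun n _ =>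
    hnorm n (by rw [Subgroup.normalizer_eq_top_iff.2 hN]; exact Subgroup.mem_top n)
  exact Cores.le_pCore hPn hP (hall x hx hp)

/-- A `p`-element of the Fitting subgroup lies in the `p`-core. -/
theorem mem_pCore_of_mem_fitting [Finite G] {p : ℕ} [Fact p.Prime] {x : G}
    (hx : x ∈ Cfsg.fittingSubgroup G) (hp : IsPEl p x) : x ∈ Cfsg.pCore p G :=
  mem_pCore_of_nilpotent_normal (by rw [Cores.fittingSubgroup_eq_iSup]; infer_instance)
    (Cores.fittingSubgroup_isNilpotent G) hx hp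

/-- A soluble group in which elements of `p`-power order centralise `O_q` for `q ≠ p` is nilpotent. -/
theorem nilpotent_of_centralize_cores [Finite G] (hs : Group.IsSolvable G)
    (h : ∀ p q : ℕ, p.Prime → q.Prime → p ≠ q → ∀ x : G, IsPEl p x →
      ∀ y ∈ Cfsg.pCore q G, Commute x y) : Group.IsNilpotent G := by
  rw [← Cores.fittingSubgroup_eq_top_iff, eq_top_iff]
  intro g _
  refine mem_of_parts _ fun p hp x _ hx => ?_
  haveI : Fact p.Prime := ⟨hp⟩
  set F := Cfsg.fittingSubgroup G with hF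
  haveI hFn : F.Normal := by rw [hF, Cores.fittingSubgroup_eq_iSup]; infer_instance
  let C : Subgroup G := ⨅ q : {q : ℕ // q.Prime ∧ q ≠ p},
    Subgroup.centralizer ((Cfsg.pCore q.1 G : Subgroup G) : Set G)
  have hCmem : ∀ c : G, c ∈ C ↔
      ∀ q : ℕ, q.Prime → q ≠ p → ∀ y ∈ Cfsg.pCore q G, Commute c y := by
    intro c
    simp only [C, Subgroup.mem_iInf, Subgroup.mem_centralizer_iff, Subtype.forall, SetLike.mem_coe]
    exact ⟨fun hc q h1 h2 y hy => (hc q ⟨h1, h2⟩ y hy).symm,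
      fun hc q hq y hy => (hc q hq.1 hq.2 y hy).eq.symm⟩
  have hxC : x ∈ C := (hCmem x).2 fun q hq hqp y hy => h p q hp hq (Ne.symm hqp) x hx y hy
  have hCn : C.Normal := ⟨fun c hc g => (hCmem _).2 fun q hq hqp y hy => by
    haveI : Fact q.Prime := ⟨hq⟩
    have hqn : (Cfsg.pCore q G).Normal := inferInstance
    have := ((hCmem c).1 hc q hq hqp (g⁻¹ * y * g) (by simpa using hqn.conj_mem y hy g⁻¹)).eq
    show g * c * g⁻¹ * y = y * (g * c * g⁻¹)
    calc g * c * g⁻¹ * y = g * (c * (g⁻¹ * y * g)) * g⁻¹ := by group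
      _ = g * ((g⁻¹ * y * g) * c) * g⁻¹ := by rw [this]
      _ = y * (g * c * g⁻¹) := by group⟩
  have hother : ∀ r : ℕ, r.Prime → r ≠ p → ∀ c ∈ C, IsPEl r c → c ∈ F := by
    intro r hr hrp c hc hcr
    refine Cores.centralizer_fittingSubgroup_le hs ?_
    rw [Subgroup.mem_centralizer_iff]
    intro y hy
    have hle : F ≤ Subgroup.centralizer {c} := by
      rw [hF, Cores.fittingSubgroup_eq_iSup]
      refine iSup_le fun q => ?_
      intro z hz
      rw [Subgroup.mem_centralizer_singleton_iff]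
      by_cases hqp : (q : ℕ) = p
      · exact (h r q hr (Subtype.prop q) (hqp ▸ hrp) c hcr z hz).eq.symm
      · exact ((hCmem c).1 hc q (Subtype.prop q) hqp z hz).eq.symm
    exact Subgroup.mem_centralizer_singleton_iff.1 (hle hy)
  suffices hC : Group.IsNilpotent C from Cores.le_fittingSubgroup hCn hC hxC
  refine ((Group.isNilpotent_of_finite_tfae (G := C)).out 0 3).2 fun r hrf R => ?_
  haveI := hrf
  by_cases hrp : r = p
  · subst hrp
    rw [← Subgroup.normalizer_eq_top_iff]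
    apply Subgroup.eq_top_of_le_card
    apply Nat.le_of_dvd Nat.card_pos
    rw [Nat.dvd_iff_prime_pow_dvd_dvd]
    intro t k ht htk
    haveI : Fact t.Prime := ⟨ht⟩
    by_cases htr : t = r
    · subst htr
      exact (R.pow_dvd_card_of_pow_dvd_card htk).trans
        (Subgroup.card_dvd_of_le Subgroup.le_normalizer)
    · obtain ⟨K, hK⟩ := Sylow.exists_subgroup_card_pow_prime t htk
      rw [← hK]
      refine Subgroup.card_dvd_of_le fun c hc n => ?_
      have hcel : IsPEl t (c : G) := (isPEl_of_mem (IsPGroup.of_card hK) hc).map C.subtype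
      have hcF : (c : G) ∈ F := hother t ht htr c c.2 hcel
      have hcom : ∀ m : C, IsPEl r m → c * m * c⁻¹ = m := fun m hm => by
        have h1 : Commute ((m : C) : G) (c : G) :=
          h r t (Fact.out) ht (Ne.symm htr) _ (hm.map C.subtype) _ (mem_pCore_of_mem_fitting hcF hcel)
        have h2 : c * m = m * c := Subtype.ext h1.eq.symm
        rw [h2, mul_inv_cancel_right]
      refine ⟨fun hn => ?_, fun hn => ?_⟩
      · rw [hcom n (isPEl_of_mem R.2 hn)]; exact hn
      · have h3 := hcom _ (isPEl_of_mem R.2 hn)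
        have h4 : c * n * c⁻¹ = n := mul_left_cancel (mul_right_cancel h3)
        rwa [h4] at hn
  · have hle : (R : Subgroup C) ≤ (Cfsg.pCore r G).subgroupOf C := fun c hc =>
      mem_pCore_of_mem_fitting (hother r Fact.out hrp c c.2 ((isPEl_of_mem R.2 hc).map C.subtype))
        ((isPEl_of_mem R.2 hc).map C.subtype)
    haveI : (Cfsg.pCore r G).Normal := inferInstance
    rw [← R.3 ((Cores.pCore_isPGroup r G).comap_subtype (K := C)) hle]
    infer_instance

end Cfsg.Agent.Lib.CoprimeValues
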