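import Cfsg.Agent.Lib.CoprimeValues.Tools

/-!
Values of left-normed commutator words and the coprime order condition on them.
-/

set_option autoImplicit false
set_option linter.style.haveILetI false
set_option linter.unusedVariables false

namespace Cfsg.Agent.Lib.CoprimeValues

open scoped commutatorElement

variable {G : Type*} [Group G] {H : Type*} [Group H]

/-- The left-normed commutator `[a, l₁, l₂, …]`. -/
def val (a : G) (l : List G) : G := l.foldl (fun a b => a * b * a⁻¹ * b⁻¹) a

/-- `x` is a left-normed commutator value of length `k + 1`. -/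
def IsVal (k : ℕ) (x : G) : Prop := ∃ (a : G) (l : List G), l.length = k ∧ x = val a l

/-- The coprime order condition on values of length `k + 1`. -/
def Cond (k : ℕ) (G : Type*) [Group G] : Prop :=
  ∀ x y : G, IsVal k x → IsVal k y → (orderOf x).Coprime (orderOf y) →
    (∀ r : ℕ, r.Prime → r ∣ orderOf x * orderOf y → r ∣ orderOf (x * y)) ∨
      orderOf x * orderOf y ≤ orderOf (x * y)

theorem isVal_iff (k : ℕ) (x : G) :
    IsVal k x ↔
      ∃ f : Fin (k + 1) → G,
        x = ((List.ofFn f).tail).foldl (fun a b => a * b * a⁻¹ * b⁻¹) (f 0) := by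
  constructor
  · rintro ⟨a, l, rfl, rfl⟩
    refine ⟨Fin.cons a (fun i => l.get i), ?_⟩
    rw [List.ofFn_succ, List.tail_cons]
    simp [Fin.cons_succ, val]
  · rintro ⟨f, rfl⟩
    exact ⟨f 0, (List.ofFn f).tail, by simp, rfl⟩

theorem map_val (f : G →* H) (a : G) (l : List G) : f (val a l) = val (f a) (l.map f) := by
  induction l generalizing a with
  | nil => rfl
  | cons b l ih =>
    show f (val (a * b * a⁻¹ * b⁻¹) l) = _
    rw [ih]
    simp [val]

theorem IsVal.map {k : ℕ} {x : G} (h : IsVal k x) (f : G →* H) : IsVal k (f x) := by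
  obtain ⟨a, l, hl, rfl⟩ := h
  exact ⟨f a, l.map f, by simpa using hl, map_val f a l⟩

theorem IsVal.conj {k : ℕ} {x : G} (h : IsVal k x) (g : G) : IsVal k (g * x * g⁻¹) :=
  h.map (MulAut.conj g).toMonoidHom

theorem IsVal.comm {k : ℕ} {x : G} (h : IsVal k x) (g : G) : IsVal k ⁅x, g⁆ := by
  obtain ⟨a, l, hl, rfl⟩ := h
  cases l with
  | nil => exact ⟨⁅val a [], g⁆, [], hl, rfl⟩
  | cons b l =>
    refine ⟨⁅a, b⁆, l ++ [g], by simpa using hl, ?_⟩
    simp [val, List.foldl_append, commutatorElement_def]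

/-- `[a, g, g, …, g]`. -/
def it (g : G) (j : ℕ) (a : G) : G := (fun b => ⁅b, g⁆)^[j] a

theorem it_zero (g a : G) : it g 0 a = a := rfl

theorem it_succ (g : G) (j : ℕ) (a : G) : it g (j + 1) a = it g j ⁅a, g⁆ :=
  Function.iterate_succ_apply _ j a

theorem it_succ' (g : G) (j : ℕ) (a : G) : it g (j + 1) a = ⁅it g j a, g⁆ :=
  Function.iterate_succ_apply' _ j a

theorem val_replicate (g : G) (k : ℕ) (a : G) : val a (List.replicate k g) = it g k a := by
  induction k generalizing a with
  | zero => rfl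
  | succ k ih =>
    rw [it_succ, ← ih, List.replicate_succ]
    simp [val, commutatorElement_def]

theorem isVal_it (g : G) (k : ℕ) (a : G) : IsVal k (it g k a) :=
  ⟨a, List.replicate k g, List.length_replicate, (val_replicate g k a).symm⟩

theorem map_it (f : G →* H) (g : G) (j : ℕ) (a : G) : f (it g j a) = it (f g) j (f a) := by
  induction j generalizing a with
  | zero => rfl
  | succ j ih => rw [it_succ, it_succ, ih, map_commutatorElement]

theorem comm_mem {Q : Subgroup G} {g a : G} (hg : g ∈ Subgroup.normalizer (Q : Set G)) (ha : a ∈ Q) :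
    ⁅a, g⁆ ∈ Q := by
  rw [commutatorElement_def, mul_assoc, mul_assoc]
  refine mul_mem ha ?_
  rw [← mul_assoc]
  exact (hg a⁻¹).1 (inv_mem ha)

theorem it_mem {Q : Subgroup G} {g a : G} (hg : g ∈ Subgroup.normalizer (Q : Set G)) (ha : a ∈ Q)
    (j : ℕ) : it g j a ∈ Q := by
  induction j with
  | zero => exact ha
  | succ j ih => rw [it_succ']; exact comm_mem hg ih

theorem comm_eq_one_of_comm_comm {Q : Subgroup G} {g a : G} [Finite Q]
    (hg : g ∈ Subgroup.normalizer (Q : Set G))
    (hcop : (orderOf g).Coprime (Nat.card Q)) (ha : a ∈ Q) (h : ⁅⁅a, g⁆, g⁆ = 1) : ⁅a, g⁆ = 1 := by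
  have hc : ⁅a, g⁆ ∈ Q := comm_mem hg ha
  have hcg : Commute ⁅a, g⁆ g := commutatorElement_eq_one_iff_commute.1 h
  have hoc : orderOf ⁅a, g⁆ ∣ Nat.card Q := by
    rw [← Subgroup.orderOf_mk _ hc]; exact orderOf_dvd_natCard _
  have h1 : orderOf (⁅a, g⁆ * g) = orderOf ⁅a, g⁆ * orderOf g :=
    hcg.orderOf_mul_eq_mul_orderOf_of_coprime (hcop.symm.coprime_dvd_left hoc)
  have h2 : ⁅a, g⁆ * g = MulAut.conj a g := by rw [MulAut.conj_apply, commutatorElement_def]; group
  rw [h2, MulEquiv.orderOf_eq] at h1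
  rw [← orderOf_eq_one_iff]
  by_cases hg0 : orderOf g = 0
  · rw [hg0, Nat.coprime_zero_left] at hcop
    rw [hcop] at hoc
    exact Nat.dvd_one.1 hoc
  · exact (Nat.mul_eq_right hg0).1 h1.symm

theorem comm_eq_one_of_it {Q : Subgroup G} {g : G} [Finite Q]
    (hg : g ∈ Subgroup.normalizer (Q : Set G)) (hcop : (orderOf g).Coprime (Nat.card Q)) :
    ∀ (j : ℕ) {a : G}, a ∈ Q → it g j a = 1 → ⁅a, g⁆ = 1 := by
  intro j
  induction j with
  | zero =>
    intro a ha h
    rw [it_zero] at h
    rw [h, commutatorElement_one_left]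
  | succ j ih =>
    intro a ha h
    rw [it_succ] at h
    exact comm_eq_one_of_comm_comm hg hcop ha (ih (comm_mem hg ha) h)

variable {k : ℕ}

/-- A `p`-value centralises every `q`-subgroup it normalises. -/
theorem Cond.centralizes [Finite G] (hG : Cond k G) {p q : ℕ} [Fact p.Prime] [hq : Fact q.Prime]
    (hpq : p ≠ q) {x : G} (hv : IsVal k x) (hx : IsPEl p x) {Q : Subgroup G} (hQ : IsPGroup q Q)
    (hn : x ∈ Subgroup.normalizer (Q : Set G)) {a : G} (ha : a ∈ Q) : Commute a x := by
  rw [← commutatorElement_eq_one_iff_commute]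
  refine comm_eq_one_of_it hn (hx.coprime_card hpq hQ) (k + 1) ha ?_
  rw [it_succ']
  set m := it x k a with hm
  set y := ⁅m, x⁆ with hy
  have hyv : IsVal k y := (isVal_it x k a).comm x
  have hyQ : y ∈ Q := comm_mem hn (it_mem hn ha k)
  obtain ⟨j, hj⟩ := isPEl_of_mem hQ hyQ
  obtain ⟨i, hi⟩ := hx
  have hord : orderOf (y * x) = orderOf x := by
    have h2 : y * x = MulAut.conj m x := by
      rw [MulAut.conj_apply, hy, commutatorElement_def]; group
    rw [h2, MulEquiv.orderOf_eq]
  have hpp : p.Prime := Fact.out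
  have hcop : (orderOf y).Coprime (orderOf x) := by
    rw [hi, hj]; exact Nat.Coprime.pow j i ((Nat.coprime_primes hq.out hpp).2 hpq.symm)
  rw [← orderOf_eq_one_iff, hj]
  rcases Nat.eq_zero_or_pos j with h0 | h0
  · rw [h0, pow_zero]
  exfalso
  have hqj : 1 < q ^ j := Nat.one_lt_pow h0.ne' hq.out.one_lt
  rcases hG y x hyv hv hcop with h | h
  · have := h q hq.out (dvd_mul_of_dvd_left (hj ▸ dvd_pow_self q h0.ne') _)
    rw [hord, hi] at this
    exact hpq ((Nat.prime_dvd_prime_iff_eq hq.out hpp).1 (hq.out.dvd_of_dvd_pow this)).symm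
  · rw [hord, hj] at h
    have hpos : 0 < orderOf x := orderOf_pos x
    nlinarith

/-- In a soluble subgroup a `p`-value lies in the `p`-core. -/
theorem Cond.mem_pCore [Finite G] (hG : Cond k G) {X : Type*} [Group X] [Finite X]
    (hX : Group.IsSolvable X) (f : X →* G) (hf : Function.Injective f) {p : ℕ} [hpf : Fact p.Prime]
    {x : X} (hv : IsVal k (f x)) (hx : IsPEl p x) : x ∈ Cfsg.pCore p X := by
  set O := Cfsg.pCore p X with hO
  haveI : O.Normal := by rw [hO]; infer_instance
  let π : X →* X ⧸ O := QuotientGroup.mk' O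
  have hπ : Function.Surjective π := QuotientGroup.mk'_surjective O
  haveI := hX
  have hXs : Group.IsSolvable (X ⧸ O) := Group.isSolvable_of_surjective hπ
  have hker : ∀ z, π z = 1 ↔ z ∈ O := fun z => QuotientGroup.eq_one_iff z
  have hOp : IsPGroup p O := Cores.pCore_isPGroup p X
  have hcore : Cfsg.pCore p (X ⧸ O) = ⊥ := by
    rw [← Subgroup.map_comap_eq_self_of_surjective hπ (Cfsg.pCore p (X ⧸ O)),
      Cores.comap_pCore_quotient hOp, ← hO]
    exact QuotientGroup.map_mk'_self O
  have hcen : π x ∈ Subgroup.centralizer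
      ((Cfsg.fittingSubgroup (X ⧸ O) : Subgroup (X ⧸ O)) : Set (X ⧸ O)) := by
    have hle : Cfsg.fittingSubgroup (X ⧸ O) ≤ Subgroup.centralizer {π x} := by
      rw [Cores.fittingSubgroup_eq_iSup]
      refine iSup_le fun q => ?_
      by_cases hqp : (q : ℕ) = p
      · rw [hqp, hcore]; exact bot_le
      haveI : Fact (q : ℕ).Prime := ⟨Subtype.prop q⟩
      intro z hz
      rw [Subgroup.mem_centralizer_singleton_iff]
      set L : Subgroup X := (Cfsg.pCore q (X ⧸ O)).comap π with hL
      haveI : L.Normal := by rw [hL]; infer_instance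
      obtain ⟨Q0⟩ := (inferInstance : Nonempty (Sylow q L))
      set Q : Subgroup X := (Q0 : Subgroup L).map L.subtype with hQ
      have hQq : IsPGroup q Q := Q0.2.map _
      -- the image of `Q` is the whole `q`-core
      have hsurj : Function.Surjective (π.subgroupComap (Cfsg.pCore q (X ⧸ O))) :=
        MonoidHom.subgroupComap_surjective_of_surjective π _ hπ
      have hQimg : (Cfsg.pCore q (X ⧸ O)) ≤ Q.map π := by
        intro w hw
        have := Sylow.mapSurjective hsurj Q0
        have htop : ((Q0.mapSurjective hsurj : Sylow q (Cfsg.pCore q (X ⧸ O))) :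
            Subgroup (Cfsg.pCore q (X ⧸ O))) = ⊤ :=
          (Q0.mapSurjective hsurj).3 ((Cores.pCore_isPGroup q (X ⧸ O)).to_subgroup ⊤) le_top |>.symm
        rw [Sylow.coe_mapSurjective] at htop
        have hmem : (⟨w, hw⟩ : Cfsg.pCore q (X ⧸ O)) ∈
            (Q0 : Subgroup L).map (π.subgroupComap (Cfsg.pCore q (X ⧸ O))) := by
          rw [htop]; exact Subgroup.mem_top _
        obtain ⟨v, hv', hvw⟩ := hmem
        exact ⟨v, ⟨v, hv', rfl⟩, congrArg Subtype.val hvw⟩
      have hLle : L ≤ Q ⊔ O := by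
        intro l hl
        obtain ⟨b, hb, hbl⟩ := hQimg (show π l ∈ Cfsg.pCore q (X ⧸ O) from hl)
        have hlb : b⁻¹ * l ∈ O := by rw [← hker, map_mul, map_inv, hbl, inv_mul_cancel]
        have := mul_mem (Subgroup.mem_sup_left hb : b ∈ Q ⊔ O) (Subgroup.mem_sup_right hlb)
        rwa [mul_inv_cancel_left] at this
      have htop : Subgroup.normalizer (Q : Set X) ⊔ O = ⊤ := by
        rw [eq_top_iff, ← Sylow.normalizer_sup_eq_top Q0, ← hQ]
        exact sup_le le_sup_left (hLle.trans (sup_le_sup_right Subgroup.le_normalizer O))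
      have hxm : x ∈ O ⊔ Subgroup.normalizer (Q : Set X) := by
        rw [sup_comm, htop]; exact Subgroup.mem_top x
      obtain ⟨o, ho, n, hn, hxn⟩ := Subgroup.mem_sup_of_normal_left.1 hxm
      have hnp : IsPEl p n := by
        refine isPEl_of_mem (IsPGroup.to_sup_of_normal_left hOp hx.isPGroup) ?_
        have hn' : n = o⁻¹ * x := by rw [← hxn, inv_mul_cancel_left]
        rw [hn']
        exact mul_mem (Subgroup.mem_sup_left (inv_mem ho))
          (Subgroup.mem_sup_right (Subgroup.mem_zpowers x))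
      have hOn : ∀ w : X, f w ∈ Subgroup.normalizer ((O.map f : Subgroup G) : Set G) := fun w =>
        Subgroup.le_normalizer_map f ⟨w, by
          rw [Subgroup.normalizer_eq_top_iff.2 inferInstance]; exact Subgroup.mem_top w, rfl⟩
      have hUo : ∀ a ∈ Q, ∀ o' ∈ O, Commute (f o') (f (it n k a)) := fun a ha o' ho' => by
        have hva : IsVal k (f (it n k a)) := (isVal_it n k a).map f
        exact hG.centralizes (p := (q : ℕ)) (q := p) hqp hva
          ((isPEl_of_mem hQq (it_mem hn ha k)).map f) (hOp.map f) (hOn _) ⟨o', ho', rfl⟩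
      have hconj : ∀ (m : X), m ∈ Subgroup.zpowers n → ∀ a : X,
          m * it n k a * m⁻¹ = it n k (m * a * m⁻¹) := by
        intro m hm a
        have h1 := map_it (MulAut.conj m).toMonoidHom n k a
        have h2 : m * n * m⁻¹ = n := by
          obtain ⟨i, rfl⟩ := hm
          group
        simpa [h2] using h1
      set U : Subgroup G := Subgroup.closure {u | ∃ a ∈ Q, u = f (it n k a)} with hU
      have hUq : IsPGroup (q : ℕ) U := by
        refine (hQq.map f).to_le ?_
        rw [hU, Subgroup.closure_le]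
        rintro _ ⟨a, ha, rfl⟩
        exact ⟨_, it_mem hn ha k, rfl⟩
      have hxu : ∀ a ∈ Q, f x * f (it n k a) * (f x)⁻¹ = f (it n k (n * a * n⁻¹)) := by
        intro a ha
        rw [← hconj n (Subgroup.mem_zpowers n) a, ← hxn]
        have hc := (hUo (n * a * n⁻¹) ((hn a).1 ha) o ho).eq
        rw [← hconj n (Subgroup.mem_zpowers n) a] at hc
        simp only [map_mul, map_inv] at hc ⊢
        calc f o * f n * f (it n k a) * (f o * f n)⁻¹
            = f o * (f n * f (it n k a) * (f n)⁻¹) * (f o)⁻¹ := by group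
          _ = f n * f (it n k a) * (f n)⁻¹ := by rw [hc, mul_inv_cancel_right]
      have hxU : f x ∈ Subgroup.normalizer (U : Set G) := by
        have hsub : U.map (MulAut.conj (f x)).toMonoidHom ≤ U := by
          rw [hU, MonoidHom.map_closure, Subgroup.closure_le]
          rintro _ ⟨_, ⟨a, ha, rfl⟩, rfl⟩
          refine Subgroup.subset_closure ⟨n * a * n⁻¹, (hn a).1 ha, ?_⟩
          simpa using hxu a ha
        have heq : U.map (MulAut.conj (f x)).toMonoidHom = U :=
          Subgroup.eq_of_le_of_card_ge hsub (by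
            rw [Subgroup.card_map_of_injective (MulAut.conj (f x)).injective])
        intro w
        refine ⟨fun hw => hsub ⟨w, hw, rfl⟩, fun hw => ?_⟩
        rw [SetLike.mem_coe, ← heq] at hw
        obtain ⟨w', hw', hww⟩ := hw
        have : w' = w := (MulAut.conj (f x)).injective hww
        exact this ▸ hw'
      obtain ⟨b, hb, rfl⟩ := hQimg hz
      have hb1 : ⁅b, n⁆ = 1 := by
        refine comm_eq_one_of_it hn (hnp.coprime_card (Ne.symm hqp) hQq) (k + 1) hb ?_
        rw [it_succ', commutatorElement_eq_one_iff_commute]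
        refine (Commute.eq ?_)
        have hc := (hG.centralizes (q := (q : ℕ)) (Ne.symm hqp) hv (hx.map f) hUq hxU
          (Subgroup.subset_closure ⟨b, hb, rfl⟩)).eq
        have h2 := hxu b hb
        rw [← hc, mul_inv_cancel_right, ← hconj n (Subgroup.mem_zpowers n) b] at h2
        have h3 := hf h2
        exact (eq_mul_inv_iff_mul_eq.1 h3)
      have hπxn : π x = π n := by
        rw [← hxn, map_mul, (hker o).2 ho, one_mul]
      rw [hπxn, ← map_mul, ← map_mul, (commutatorElement_eq_one_iff_commute.1 hb1).eq]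
    rw [Subgroup.mem_centralizer_iff]
    intro y hy
    exact (Subgroup.mem_centralizer_singleton_iff.1 (hle hy))
  have hF := mem_pCore_of_mem_fitting (Cores.centralizer_fittingSubgroup_le hXs hcen) (hx.map π)
  rwa [hcore, Subgroup.mem_bot, hker] at hF

end Cfsg.Agent.Lib.CoprimeValues
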